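import Groth.Agent.L02.Grpd.Algebra
import Mathlib.AlgebraicGeometry.Morphisms.UniversallyOpen
import Mathlib.AlgebraicGeometry.Morphisms.Smooth
import Mathlib.AlgebraicGeometry.Morphisms.Etale
import Mathlib.AlgebraicGeometry.Sites.Etale
import Mathlib.AlgebraicGeometry.Sites.Fpqc

/-!
The largest open over which a target-local property holds is invariant.
-/

set_option autoImplicit false
universe u

open AlgebraicGeometry CategoryTheory Limits MorphismProperty

namespace L02.Grpd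

attribute [local simp] Grpd.GroupoidScheme.i_s Grpd.GroupoidScheme.i_t

theorem pullbackSnd_restrict_iff {P : MorphismProperty Scheme.{u}} [P.RespectsIso] {X U O : Scheme.{u}}
    (f : X ⟶ U) (V : U.Opens) (γ : O ⟶ (V : Scheme.{u})) :
    P (pullback.snd (f ∣_ V) γ) ↔ P (pullback.snd f (γ ≫ V.ι)) := by
  have h := (IsPullback.of_hasPullback (f ∣_ V) γ).paste_horiz (isPullback_morphismRestrict f V).flip
  rw [← h.isoPullback_hom_snd, P.cancel_left_of_respectsIso]

/-- The core: `f` pulled back along `a` and along `b` agree, `a` and `b` are covers, and `W` is maximal. -/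
theorem preimage_le (Pm : MorphismProperty Scheme.{u}) [Pm.IsStableUnderBaseChange] [Pm.IsStableUnderComposition]
    (hopen : ∀ {X Y : Scheme.{u}} (f : X ⟶ Y), Pm f → IsOpenMap f)
    (himm : ∀ {X Y : Scheme.{u}} (f : X ⟶ Y) [IsOpenImmersion f], Pm f)
    (P : MorphismProperty Scheme.{u}) [P.IsLocalAtTarget (Scheme.precoverage Pm)]
    {X U R : Scheme.{u}} (f : X ⟶ U) (a b : R ⟶ U)
    (ha : Pm a) (ha' : Function.Surjective a) (hb : Pm b)
    (φ : pullback f a ⟶ X) (hφ : IsPullback φ (pullback.snd f a) f b)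
    (W : U.Opens) (hW : P (f ∣_ W)) (hmax : ∀ W' : U.Opens, P (f ∣_ W') → W' ≤ W) :
    a ⁻¹ᵁ W ≤ b ⁻¹ᵁ W := by
  let O := a ⁻¹ᵁ W
  have hca : Presieve.singleton (a ∣_ W) ∈ Scheme.precoverage Pm (W : Scheme.{u}) := by
    rw [Scheme.singleton_mem_precoverage_iff]
    refine ⟨fun w => ?_, Pm.of_isPullback (isPullback_morphismRestrict a W).flip ha⟩
    obtain ⟨r, hr⟩ := ha' w.1
    have hr' : r ∈ a ⁻¹ᵁ W := show a r ∈ W from hr ▸ w.2
    exact ⟨⟨r, hr'⟩, Subtype.ext ((morphismRestrict_base_coe a W _).trans hr)⟩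
  have hQa : P (pullback.snd f (O.ι ≫ a)) := by
    have := (pullbackSnd_restrict_iff (P := P) f W _).mp
      (IsLocalAtTarget.pullbackSnd (P := P) (f := f ∣_ W) hca (Presieve.singleton_self _) hW)
    rwa [morphismRestrict_ι] at this
  have hQb : P (pullback.snd f (O.ι ≫ b)) := by
    have h₁ := (IsPullback.of_hasPullback (pullback.snd f a) O.ι).paste_horiz (IsPullback.of_hasPullback f a)
    have h₂ := (IsPullback.of_hasPullback (pullback.snd f a) O.ι).paste_horiz hφ
    rw [← h₂.isoPullback_inv_snd, P.cancel_left_of_respectsIso]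
    rw [← h₁.isoPullback_hom_snd, P.cancel_left_of_respectsIso]
    exact hQa
  have hOb : Pm (O.ι ≫ b) := Pm.comp_mem _ _ (himm _) hb
  let W' : U.Opens := ⟨Set.range (O.ι ≫ b), (hopen _ hOb).isOpen_range⟩
  let β : (O : Scheme.{u}) ⟶ (W' : Scheme.{u}) := IsOpenImmersion.lift W'.ι (O.ι ≫ b) (by
    rw [Scheme.Opens.range_ι]; exact subset_rfl)
  have hβ : β ≫ W'.ι = O.ι ≫ b := IsOpenImmersion.lift_fac _ _ _
  have hcb : Presieve.singleton β ∈ Scheme.precoverage Pm (W' : Scheme.{u}) := by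
    rw [Scheme.singleton_mem_precoverage_iff]
    refine ⟨fun w => ?_, ?_⟩
    · obtain ⟨o, ho⟩ := w.2
      refine ⟨o, W'.ι.isOpenEmbedding.injective ?_⟩
      rw [← Scheme.Hom.comp_apply, hβ]
      exact ho
    · have hsq : IsPullback (𝟙 (O : Scheme.{u})) β (β ≫ W'.ι) W'.ι :=
        IsPullback.of_horiz_isIso_mono ⟨by simp⟩
      exact Pm.of_isPullback hsq (hβ ▸ hOb)
  have hW' : P (f ∣_ W') := by
    refine IsLocalAtTarget.of_forall_pullbackSnd (P := P) hcb fun {V g} _ hg => ?_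
    obtain ⟨⟨⟩⟩ := hg
    refine (pullbackSnd_restrict_iff (P := P) f W' β).mpr ?_
    rwa [hβ]
  intro r hr
  exact hmax W' hW' ⟨⟨r, hr⟩, rfl⟩

theorem preimage_eq (Pm : MorphismProperty Scheme.{u}) [Pm.IsStableUnderBaseChange] [Pm.IsStableUnderComposition]
    (hopen : ∀ {X Y : Scheme.{u}} (f : X ⟶ Y), Pm f → IsOpenMap f)
    (himm : ∀ {X Y : Scheme.{u}} (f : X ⟶ Y) [IsOpenImmersion f], Pm f)
    (P : MorphismProperty Scheme.{u}) [P.IsLocalAtTarget (Scheme.precoverage Pm)]
    {X U R : Scheme.{u}} (f : X ⟶ U) (a b : R ⟶ U)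
    (ha : Presieve.singleton a ∈ Scheme.precoverage Pm U) (hb : Presieve.singleton b ∈ Scheme.precoverage Pm U)
    (φ : pullback f a ⟶ X) (hφ : IsPullback φ (pullback.snd f a) f b)
    (W : U.Opens) (hW : P (f ∣_ W)) (hmax : ∀ W' : U.Opens, P (f ∣_ W') → W' ≤ W) :
    a ⁻¹ᵁ W = b ⁻¹ᵁ W := by
  rw [Scheme.singleton_mem_precoverage_iff] at ha hb
  obtain ⟨ψ, hψ⟩ := exists_isPullback_swap hφ
  exact le_antisymm (preimage_le Pm hopen himm P f a b ha.2 ha.1 hb.2 φ hφ W hW hmax)
    (preimage_le Pm hopen himm P f b a hb.2 hb.1 ha.2 ψ hψ W hW hmax)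

/-- The same for the four topologies. -/
theorem preimage_eq_of_topology (K : Precoverage Scheme.{u})
    (hK : K = Scheme.zariskiPrecoverage ∨ K = Scheme.etalePrecoverage ∨ K = Scheme.precoverage @Smooth ∨
      K = Scheme.fppfPrecoverage)
    (P : MorphismProperty Scheme.{u}) [P.IsLocalAtTarget K]
    {X U R : Scheme.{u}} (f : X ⟶ U) (a b : R ⟶ U)
    (ha : Presieve.singleton a ∈ K U) (hb : Presieve.singleton b ∈ K U)
    (φ : pullback f a ⟶ X) (hφ : IsPullback φ (pullback.snd f a) f b)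
    (W : U.Opens) (hW : P (f ∣_ W)) (hmax : ∀ W' : U.Opens, P (f ∣_ W') → W' ≤ W) :
    a ⁻¹ᵁ W = b ⁻¹ᵁ W := by
  have key : ∀ {X Y : Scheme.{u}} (g : X ⟶ Y), Flat g → LocallyOfFinitePresentation g → IsOpenMap g :=
    fun g _ _ => isOpenMap_of_generalizingMap g (Flat.generalizingMap g)
  haveI : IsStableUnderComposition (P := @Etale.{u}) := ⟨fun f g hf hg => by
    haveI : Etale f := hf; haveI : Etale g := hg; show Etale (f ≫ g); infer_instance⟩
  haveI : IsStableUnderComposition (P := (@Flat.{u} ⊓ @LocallyOfFinitePresentation.{u} : MorphismProperty Scheme.{u})) :=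
    ⟨fun f g hf hg => ⟨MorphismProperty.comp_mem _ f g hf.1 hg.1, MorphismProperty.comp_mem _ f g hf.2 hg.2⟩⟩
  haveI : IsStableUnderBaseChange (P := (@Flat.{u} ⊓ @LocallyOfFinitePresentation.{u} : MorphismProperty Scheme.{u})) :=
    ⟨fun sq hf => ⟨of_isPullback sq hf.1, of_isPullback sq hf.2⟩⟩
  rcases hK with rfl | rfl | rfl | rfl
  · exact preimage_eq @IsOpenImmersion.{u} (fun g _ => g.isOpenEmbedding.isOpenMap) (fun g h => h) P f a b ha hb φ hφ W hW hmax
  · haveI : P.IsLocalAtTarget (Scheme.precoverage @Etale.{u}) := ‹P.IsLocalAtTarget Scheme.etalePrecoverage›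
    exact preimage_eq @Etale.{u} (fun g _ => key g inferInstance inferInstance) (fun g _ => inferInstance) P f a b ha hb φ hφ W hW hmax
  · exact preimage_eq @Smooth.{u} (fun g _ => key g inferInstance inferInstance) (fun g _ => inferInstance) P f a b ha hb φ hφ W hW hmax
  · haveI : P.IsLocalAtTarget (Scheme.precoverage (@Flat.{u} ⊓ @LocallyOfFinitePresentation.{u})) :=
      ‹P.IsLocalAtTarget Scheme.fppfPrecoverage›
    exact preimage_eq (@Flat.{u} ⊓ @LocallyOfFinitePresentation.{u}) (fun g h => key g h.1 h.2)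
      (fun g _ => ⟨inferInstance, inferInstance⟩) P f a b ha hb φ hφ W hW hmax

/-- `((u, a), b) ↦ ((u, a ∘ b), b)` turns pulling back along the target into pulling back along the source. -/
theorem exists_isPullback_shear {S : Scheme.{u}} (G : Grpd.GroupoidScheme S) {U' : Scheme.{u}} (g : U' ⟶ G.U) :
    ∃ p1 : pullback (pullback.snd g G.t ≫ G.s) G.t ⟶ pullback g G.t,
      p1 ≫ pullback.fst g G.t = pullback.fst (pullback.snd g G.t ≫ G.s) G.t ≫ pullback.fst g G.t ∧
      p1 ≫ pullback.snd g G.t = mul G (pullback.fst (pullback.snd g G.t ≫ G.s) G.t ≫ pullback.snd g G.t)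
        (pullback.snd (pullback.snd g G.t ≫ G.s) G.t) (by simp [pullback.condition]) ∧
      IsPullback p1 (pullback.snd (pullback.snd g G.t ≫ G.s) G.t) (pullback.snd g G.t ≫ G.s) G.s := by
  have hcond : (pullback.fst (pullback.snd g G.t ≫ G.s) G.t ≫ pullback.snd g G.t) ≫ G.s =
      pullback.snd (pullback.snd g G.t ≫ G.s) G.t ≫ G.t := by simp [pullback.condition]
  obtain ⟨p1, hp₁, hp₂⟩ : ∃ p1 : pullback (pullback.snd g G.t ≫ G.s) G.t ⟶ pullback g G.t,
      p1 ≫ pullback.fst g G.t = pullback.fst (pullback.snd g G.t ≫ G.s) G.t ≫ pullback.fst g G.t ∧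
      p1 ≫ pullback.snd g G.t = mul G _ _ hcond :=
    ⟨pullback.lift _ _ (by rw [mul_t, Category.assoc, Category.assoc, pullback.condition]), pullback.lift_fst _ _ _,
      pullback.lift_snd _ _ _⟩
  refine ⟨p1, hp₁, hp₂, IsPullback.of_isLimit' ⟨by rw [← Category.assoc, hp₂, mul_s]⟩ (PullbackCone.IsLimit.mk _
    (fun c => pullback.lift (pullback.lift (c.fst ≫ pullback.fst g G.t)
        (mul G (c.fst ≫ pullback.snd g G.t) (c.snd ≫ G.i) (by rw [inv_t, Category.assoc]; exact c.condition))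
        (by rw [mul_t, Category.assoc, Category.assoc, pullback.condition])) c.snd
        (by rw [← Category.assoc, pullback.lift_snd, mul_s, inv_s])) ?_ ?_ ?_)⟩
  · intro c
    have hc : (c.fst ≫ pullback.snd g G.t) ≫ G.s = c.snd ≫ G.s := by rw [Category.assoc]; exact c.condition
    apply pullback.hom_ext
    · rw [Category.assoc, hp₁, ← Category.assoc, pullback.lift_fst, pullback.lift_fst]
    · rw [Category.assoc, hp₂, comp_mul]
      exact (mul_congr G (by rw [← Category.assoc, pullback.lift_fst, pullback.lift_snd]) (pullback.lift_snd _ _ _)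
        _ (by simp)).trans (cancel_right' G _ _ hc)
  · intro c
    exact pullback.lift_snd _ _ _
  · intro c m hm₁ hm₂
    apply pullback.hom_ext
    · rw [pullback.lift_fst]
      apply pullback.hom_ext
      · rw [pullback.lift_fst, ← hm₁, Category.assoc, Category.assoc, hp₁]
      · rw [pullback.lift_snd]
        have hm : (m ≫ pullback.fst (pullback.snd g G.t ≫ G.s) G.t ≫ pullback.snd g G.t) ≫ G.s =
            (m ≫ pullback.snd (pullback.snd g G.t ≫ G.s) G.t) ≫ G.t := by simp [pullback.condition]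
        refine (Category.assoc _ _ _).trans ((cancel_right G _ _ hm).symm.trans (mul_congr G ?_ (by rw [← hm₂]) _ _))
        rw [← comp_mul G m _ _ hcond, ← hm₁, Category.assoc, hp₂]
    · rw [pullback.lift_snd, ← hm₂]

/-- The largest open with a property, pulled to `U'`. -/
theorem exists_open_preimage_eq {S : Scheme.{u}} (G : Grpd.GroupoidScheme S) {U' : Scheme.{u}} (g : U' ⟶ G.U)
    (P Q R : MorphismProperty Scheme.{u}) [P.RespectsIso] [Q.IsStableUnderBaseChange]
    (W : ∀ {X Y : Scheme.{u}} (f : X ⟶ Y), Q f → X.Opens)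
    (hWP : ∀ {X Y : Scheme.{u}} (f : X ⟶ Y) (hf : Q f), P ((W f hf).ι ≫ f))
    (hWmax : ∀ {X Y : Scheme.{u}} (f : X ⟶ Y) (hf : Q f) (V : X.Opens), P (V.ι ≫ f) → V ≤ W f hf)
    (hWbc : ∀ {X Y Y' : Scheme.{u}} (f : X ⟶ Y) (hf : Q f) (b : Y' ⟶ Y), R b →
      ∀ hf' : Q (pullback.snd f b), pullback.fst f b ⁻¹ᵁ W f hf = W (pullback.snd f b) hf')
    (hs : R G.s) (ht : R G.t) (hh : Q (pullback.snd g G.t ≫ G.s)) :
    ∃ V : U'.Opens, pullback.fst g G.t ⁻¹ᵁ V = W (pullback.snd g G.t ≫ G.s) hh := by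
  -- the largest open only depends on the morphism up to isomorphism
  have hWiso : ∀ {X X' Y : Scheme.{u}} (φ : X' ⟶ X) [IsIso φ] (f : X ⟶ Y) (hf : Q f) (hf' : Q (φ ≫ f)),
      φ ⁻¹ᵁ W f hf = W (φ ≫ f) hf' := by
    intro X X' Y φ _ f hf hf'
    refine le_antisymm (hWmax _ hf' _ ?_) ?_
    · rw [← Category.assoc, ← morphismRestrict_ι, Category.assoc, P.cancel_left_of_respectsIso]
      exact hWP f hf
    · obtain ⟨V, hV⟩ : ∃ V : X.Opens, φ ⁻¹ᵁ V = W (φ ≫ f) hf' := by
        refine ⟨(inv φ) ⁻¹ᵁ W (φ ≫ f) hf', ?_⟩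
        rw [← Scheme.Hom.comp_preimage, IsIso.hom_inv_id]
        rfl
      rw [← hV]
      refine Scheme.Hom.preimage_mono _ (hWmax f hf V ?_)
      have h := hWP (φ ≫ f) hf'
      rw [← hV, ← Category.assoc, ← morphismRestrict_ι, Category.assoc, P.cancel_left_of_respectsIso] at h
      exact h
  let π := pullback.fst g G.t
  let ρ := pullback.snd g G.t
  let h := pullback.snd g G.t ≫ G.s
  let b := pullback.snd h G.t
  obtain ⟨p1, hp₁, hp₂, hsq⟩ := exists_isPullback_shear G g
  have hb : Q b := Q.pullback_snd _ _ hh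
  -- the two projections have the same inverse image of `W h`
  have key : pullback.fst h G.t ⁻¹ᵁ W h hh = p1 ⁻¹ᵁ W h hh := by
    have hs' : Q (pullback.snd h G.s) := Q.pullback_snd _ _ hh
    have e0 : pullback.fst h G.t ⁻¹ᵁ W h hh = W b hb := hWbc h hh G.t ht hb
    have e1 := hWbc h hh G.s hs hs'
    have e2 : p1 ⁻¹ᵁ W h hh = hsq.isoPullback.hom ⁻¹ᵁ W (pullback.snd h G.s) hs' := by
      rw [← e1, ← Scheme.Hom.comp_preimage, hsq.isoPullback_hom_fst]
    have e3 := hWiso hsq.isoPullback.hom (pullback.snd h G.s) hs' (hsq.isoPullback_hom_snd.symm ▸ hb)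
    rw [e0, e2, e3]
    congr 1
    exact hsq.isoPullback_hom_snd.symm
  let σ : U' ⟶ pullback g G.t := pullback.lift (𝟙 U') (g ≫ G.e) (by rw [Category.assoc, G.e_t, Category.id_comp, Category.comp_id])
  let z : pullback g G.t ⟶ pullback (pullback.snd g G.t ≫ G.s) G.t := pullback.lift (𝟙 _) (ρ ≫ G.i) (by simp [ρ])
  refine ⟨σ ⁻¹ᵁ W h hh, ?_⟩
  have hz₀ : z ≫ pullback.fst h G.t = 𝟙 _ := pullback.lift_fst _ _ _
  have hz₁ : z ≫ p1 = π ≫ σ := by
    have hz₂ : z ≫ pullback.snd (pullback.snd g G.t ≫ G.s) G.t = ρ ≫ G.i := pullback.lift_snd _ _ _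
    have hσ₁ : σ ≫ pullback.fst g G.t = 𝟙 U' := pullback.lift_fst _ _ _
    have hσ₂ : σ ≫ pullback.snd g G.t = g ≫ G.e := pullback.lift_snd _ _ _
    apply pullback.hom_ext
    · rw [Category.assoc, hp₁, ← Category.assoc, hz₀, Category.id_comp, Category.assoc, hσ₁, Category.comp_id]
    · rw [Category.assoc, hp₂, comp_mul]
      refine (mul_congr G (α' := ρ) (β' := ρ ≫ G.i) (by rw [← Category.assoc, hz₀, Category.id_comp]) hz₂ _ (by simp)).trans ?_
      refine (G.comp_i ρ).trans ?_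
      rw [Category.assoc, hσ₂]
      exact (pullback.condition_assoc G.e).symm
  have := congrArg (z ⁻¹ᵁ ·) key
  simp only [← Scheme.Hom.comp_preimage, hz₀, hz₁] at this
  rw [← Scheme.Hom.comp_preimage, ← this]
  rfl

/-- The pseudo-torsor map is an isomorphism. -/
theorem isIso_torsor {S : Scheme.{u}} (G : Grpd.GroupoidScheme S)
    (α : pullback G.stabilizerToU G.t ⟶ pullback G.s G.t)
    (hα₁ : α ≫ pullback.fst G.s G.t = pullback.fst G.stabilizerToU G.t ≫ pullback.fst G.j G.diag)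
    (hα₂ : α ≫ pullback.snd G.s G.t = pullback.snd G.stabilizerToU G.t)
    (β : pullback G.stabilizerToU G.t ⟶ pullback G.j G.j) (hβ₁ : β ≫ pullback.fst G.j G.j = α ≫ G.c)
    (hβ₂ : β ≫ pullback.snd G.j G.j = pullback.snd G.stabilizerToU G.t) : IsIso β := by
  have hj₁ : G.j ≫ pullback.fst G.pU G.pU = G.t := pullback.lift_fst _ _ _
  have hj₂ : G.j ≫ pullback.snd G.pU G.pU = G.s := pullback.lift_snd _ _ _
  have hc₁ : pullback.fst G.j G.j ≫ G.t = pullback.snd G.j G.j ≫ G.t := by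
    have h := congrArg (· ≫ pullback.fst G.pU G.pU) (pullback.condition (f := G.j) (g := G.j))
    simpa only [Category.assoc, hj₁] using h
  have hc₂ : pullback.fst G.j G.j ≫ G.s = pullback.snd G.j G.j ≫ G.s := by
    have h := congrArg (· ≫ pullback.snd G.pU G.pU) (pullback.condition (f := G.j) (g := G.j))
    simpa only [Category.assoc, hj₂] using h
  let r₁ := pullback.fst G.j G.j
  let r₂ := pullback.snd G.j G.j
  let γ := mul G r₁ (r₂ ≫ G.i) (hc₂.trans (inv_t G r₂).symm)
  have hγt : γ ≫ G.t = r₂ ≫ G.t := (mul_t G _ _ _).trans hc₁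
  have hγs : γ ≫ G.s = r₂ ≫ G.t := (mul_s G _ _ _).trans (inv_s G r₂)
  let ν : pullback G.j G.j ⟶ pullback G.stabilizerToU G.t :=
    pullback.lift (stabLift G γ (hγt.trans hγs.symm)) r₂ (by rw [stabLift_toU, hγs])
  have hβ₁' : β ≫ r₁ = mul G (α ≫ pullback.fst G.s G.t) (α ≫ pullback.snd G.s G.t)
      (by rw [Category.assoc, Category.assoc, pullback.condition]) := by
    rw [← comp_mul G α _ _ pullback.condition, c_eq]
    exact hβ₁
  refine ⟨ν, ?_, ?_⟩
  · apply pullback.hom_ext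
    · apply stab_ext
      rw [Category.id_comp, Category.assoc β ν, pullback.lift_fst, Category.assoc, stabLift_ι, comp_mul]
      refine (mul_congr G hβ₁' (by rw [← Category.assoc, hβ₂, ← hα₂]) _ (by simp)).trans
        ((cancel_right G _ _ (by rw [Category.assoc, Category.assoc, pullback.condition])).trans ?_)
      exact hα₁
    · rw [Category.id_comp, Category.assoc, pullback.lift_snd]
      exact hβ₂
  · apply pullback.hom_ext
    · rw [Category.id_comp, Category.assoc, hβ₁', comp_mul]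
      refine (mul_congr G (α' := γ) (β' := r₂) ?_ ?_ _ hγs).trans (cancel_right' G r₁ r₂ hc₂)
      · rw [hα₁]
        exact (Category.assoc _ _ _).symm.trans ((congrArg (· ≫ stabι G) (pullback.lift_fst _ _ _)).trans
          (stabLift_ι G γ _))
      · rw [hα₂, pullback.lift_snd]
    · rw [Category.id_comp, Category.assoc, hβ₂, pullback.lift_snd]

end L02.Grpd
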