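import Groth.Agent.L24.Quot.Invariant
import Groth.Agent.L18.KerReduced
import Groth.Agent.L20.FibreScheme
import Mathlib.AlgebraicGeometry.Morphisms.Immersion
import Mathlib.AlgebraicGeometry.Properties
import Mathlib.AlgebraicGeometry.FunctionField

/-! Invariant affine basic opens around generic points, for finite groupoids. -/

set_option autoImplicit false
set_option linter.style.haveILetI false
universe u

open CategoryTheory CategoryTheory.Limits AlgebraicGeometry TopologicalSpace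

namespace L02.Grpd.GenericInvariant

/-- A basic open of `Spec A` with element in `I`, squeezed between a finite set and an open. -/
theorem exists_mem_basicOpen {A : Type u} [CommRing A] {U : Scheme.{u}} (j : U ⟶ Spec (CommRingCat.of A))
    [IsImmersion j] (I : Ideal A) (hI : ∀ x : U, j x ∉ PrimeSpectrum.zeroLocus (I : Set A))
    (hcl : IsClosed (PrimeSpectrum.zeroLocus (I : Set A) ∪ Set.range j)) (O : U.Opens) (T : Set U)
    (hT : T.Finite) (hTO : T ⊆ O) :
    ∃ h ∈ I, T ⊆ ↑(j ⁻¹ᵁ PrimeSpectrum.basicOpen h) ∧ j ⁻¹ᵁ PrimeSpectrum.basicOpen h ≤ O := by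
  classical
  rcases T.eq_empty_or_nonempty with rfl | ⟨t0, ht0⟩
  · refine ⟨0, I.zero_mem, Set.empty_subset _, fun x hx => absurd (Submodule.zero_mem _) hx⟩
  let Z : Set (PrimeSpectrum A) := PrimeSpectrum.zeroLocus (I : Set A) ∪ j '' (O : Set U)ᶜ
  have hsub : j '' (O : Set U)ᶜ ⊆ Set.range j := Set.image_subset_range _ _
  have hZ : IsClosed Z := by
    obtain ⟨C, hC, hCeq⟩ := j.isEmbedding.isInducing.isClosed_iff.1 O.isOpen.isClosed_compl
    have : Z = PrimeSpectrum.zeroLocus (I : Set A) ∪ (C ∩ (PrimeSpectrum.zeroLocus (I : Set A) ∪ Set.range j)) := by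
      ext p
      constructor
      · rintro (h | ⟨x, hx, rfl⟩)
        · exact Or.inl h
        · rw [← hCeq] at hx
          exact Or.inr ⟨hx, Or.inr ⟨x, rfl⟩⟩
      · rintro (h | ⟨hpC, h | ⟨x, rfl⟩⟩)
        · exact Or.inl h
        · exact Or.inl h
        · exact Or.inr ⟨x, hCeq ▸ hpC, rfl⟩
    rw [this]
    exact (PrimeSpectrum.isClosed_zeroLocus _).union (hC.inter hcl)
  have hns : ¬ ((PrimeSpectrum.vanishingIdeal Z : Ideal A) : Set A) ⊆
      ⋃ q ∈ j '' T, (q.asIdeal : Set A) := by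
    rw [Ideal.subset_union_prime_finite (hT.image j) (j t0) (j t0) fun q _ _ _ => q.isPrime]
    rintro ⟨q, ⟨x, hx, rfl⟩, hle⟩
    have h : j x ∈ PrimeSpectrum.zeroLocus (PrimeSpectrum.vanishingIdeal Z : Set A) := hle
    rw [PrimeSpectrum.zeroLocus_vanishingIdeal_eq_closure, hZ.closure_eq] at h
    rcases h with h | ⟨y, hy, hyx⟩
    · exact hI x h
    · exact hy (j.isEmbedding.injective hyx ▸ hTO hx)
  obtain ⟨h, hhI, hh⟩ := Set.not_subset.1 hns
  have hrad : h ∈ I.radical := by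
    rw [← PrimeSpectrum.vanishingIdeal_zeroLocus_eq_radical]
    exact PrimeSpectrum.vanishingIdeal_anti_mono (Set.subset_union_left (s := PrimeSpectrum.zeroLocus (I : Set A))) hhI
  obtain ⟨n, hn⟩ := hrad
  refine ⟨h ^ (n + 1), pow_succ h n ▸ I.mul_mem_right _ hn, fun x hx => ?_, fun x hx => ?_⟩
  · exact fun hmem => hh (Set.mem_biUnion ⟨x, hx, rfl⟩ ((j x).isPrime.mem_of_pow_mem _ hmem))
  · by_contra hxO
    exact hx (Ideal.pow_mem_of_mem _ ((PrimeSpectrum.mem_vanishingIdeal Z h).1 hhI _ (Or.inr ⟨x, hxO, rfl⟩))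
      _ (Nat.succ_pos _))

/-- The preimage of a basic open with element in `I` is a closed subscheme of it. -/
theorem isClosedImmersion_restrict {A : Type u} [CommRing A] {U : Scheme.{u}} (j : U ⟶ Spec (CommRingCat.of A))
    [IsImmersion j] (I : Ideal A) (hcl : IsClosed (PrimeSpectrum.zeroLocus (I : Set A) ∪ Set.range j))
    (h : A) (hh : h ∈ I) : IsClosedImmersion (j ∣_ PrimeSpectrum.basicOpen h) := by
  haveI : IsImmersion (j ∣_ PrimeSpectrum.basicOpen h) := MorphismProperty.of_isPullback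
    (isPullback_morphismRestrict j (PrimeSpectrum.basicOpen h)).flip inferInstance
  refine .of_isPreimmersion _ ?_
  have hr : Set.range (j ∣_ PrimeSpectrum.basicOpen h) =
      Subtype.val ⁻¹' (PrimeSpectrum.zeroLocus (I : Set A) ∪ Set.range j) := by
    ext ⟨p, hp⟩
    constructor
    · rintro ⟨x, hx⟩
      exact Or.inr ⟨x.1, (morphismRestrict_base_coe j _ x).symm.trans (congrArg Subtype.val hx)⟩
    · rintro (hz | ⟨x, hx⟩)
      · exact absurd (hz hh) hp
      · exact ⟨⟨x, show j x ∈ PrimeSpectrum.basicOpen h from hx.symm ▸ hp⟩,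
          Subtype.ext ((morphismRestrict_base_coe j _ _).trans hx)⟩
  rw [hr]
  exact hcl.preimage continuous_subtype_val

theorem exists_num {R : CommRingCat.{u}} (f : R) (g : Γ(Spec R, PrimeSpectrum.basicOpen f)) :
    ∃ a : R, ∀ p ∈ PrimeSpectrum.basicOpen f, p ∈ (Spec R).basicOpen g ↔ p ∈ PrimeSpectrum.basicOpen a := by
  obtain ⟨⟨a, w⟩, haw⟩ := IsLocalization.surj (Submonoid.powers f) g
  refine ⟨a, fun p hp => ?_⟩
  have h1 : p ∈ (Spec R).basicOpen (algebraMap R Γ(Spec R, PrimeSpectrum.basicOpen f) a) ↔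
      p ∈ PrimeSpectrum.basicOpen a := by
    rw [AlgebraicGeometry.IsAffineOpen.algebraMap_Spec_obj, CommRingCat.comp_apply, Scheme.basicOpen_res, basicOpen_eq_of_affine]
    exact ⟨fun h => h.2, fun h => ⟨hp, h⟩⟩
  rw [← h1, ← haw, Scheme.basicOpen_mul]
  refine ⟨fun h => ⟨h, ?_⟩, fun h => h.1⟩
  rw [(Spec R).basicOpen_of_isUnit (IsLocalization.map_units _ w)]
  exact hp

theorem mem_basicOpen_app {X Y : Scheme.{u}} (k : X ⟶ Y) (g : Γ(Y, ⊤)) (x : X) :
    x ∈ X.basicOpen (k.app ⊤ g) ↔ k x ∈ Y.basicOpen g := by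
  show x ∈ X.basicOpen (k.appTop g) ↔ _
  rw [← Scheme.preimage_basicOpen_top]
  rfl

theorem main {S : Scheme.{u}} (G : Grpd.GroupoidScheme S) [IsFinite G.s] [LocallyOfFinitePresentation G.s]
    [IsFinite G.t] (m : ℕ) (u : Fin m → G.U)
    (hu : ∀ i (r : G.R), G.s r = u i → ∀ x : G.U, x ⤳ G.t r → x = G.t r)
    (A : Type u) [CommRing A] (j : G.U ⟶ Spec (CommRingCat.of A)) [IsImmersion j] (I : Ideal A)
    (hI : ∀ x : G.U, j x ∉ PrimeSpectrum.zeroLocus (I : Set A))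
    (hcl : IsClosed (PrimeSpectrum.zeroLocus (I : Set A) ∪ Set.range j)) :
    ∃ h ∈ I, IsAffineOpen (j ⁻¹ᵁ PrimeSpectrum.basicOpen h) ∧
      (∀ i, u i ∈ j ⁻¹ᵁ PrimeSpectrum.basicOpen h) ∧
      G.s ⁻¹ᵁ (j ⁻¹ᵁ PrimeSpectrum.basicOpen h) = G.t ⁻¹ᵁ (j ⁻¹ᵁ PrimeSpectrum.basicOpen h) := by
  classical
  have haff : ∀ h ∈ I, IsAffineOpen (j ⁻¹ᵁ PrimeSpectrum.basicOpen h) := fun h hh => by
    haveI := isClosedImmersion_restrict j I hcl h hh
    haveI : IsAffine (Scheme.Opens.toScheme (X := Spec (CommRingCat.of A)) (PrimeSpectrum.basicOpen h)) :=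
      IsAffineOpen.Spec_basicOpen (R := CommRingCat.of A) h
    exact isAffine_of_isAffineHom (j ∣_ PrimeSpectrum.basicOpen h)
  -- the orbits
  let T : Set G.U := ⋃ i, {y | Groth.Agent.L24.Quot.Rel G (u i) y}
  have hT : T.Finite := Set.finite_iUnion fun i => Groth.Agent.L24.Quot.finite_rel G (u i)
  have hTgen : ∀ y ∈ T, ∀ x : G.U, x ⤳ y → x = y := by
    intro y hy
    obtain ⟨i, r, hr, rfl⟩ := Set.mem_iUnion.1 hy
    exact hu i r hr
  have hTsat : ∀ y ∈ T, ∀ z, Groth.Agent.L24.Quot.Rel G y z → z ∈ T := fun y hy z hz => by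
    obtain ⟨i, hi⟩ := Set.mem_iUnion.1 hy
    exact Set.mem_iUnion.2 ⟨i, Groth.Agent.L24.Quot.rel_trans G hi hz⟩
  -- the reduction
  let J := Scheme.IdealSheafData.vanishingIdeal (X := G.U) (⊤ : Closeds G.U)
  haveI : IsReduced J.subscheme := Groth.L18.isReduced_vanishingIdeal_subscheme _
  let ι := J.subschemeι
  have hιsurj : Function.Surjective ι := fun x => by
    have h : x ∈ Set.range ι := by
      rw [J.range_subschemeι, Scheme.IdealSheafData.coe_support_vanishingIdeal]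
      trivial
    exact h
  have hιhom : IsHomeomorph ι :=
    ⟨ι.continuous, fun O hO => by
      rw [← ι.isClosedEmbedding.isEmbedding.isInducing.isOpen_iff.1 hO |>.choose_spec.2,
        Set.image_preimage_eq _ hιsurj]
      exact (ι.isClosedEmbedding.isEmbedding.isInducing.isOpen_iff.1 hO).choose_spec.1,
      ι.isClosedEmbedding.injective, hιsurj⟩
  let q : pullback G.s ι ⟶ J.subscheme := pullback.snd G.s ι
  -- the flat locus in the base
  let F : G.U.Opens := ⟨(ι '' (q '' {z | (q.stalkMap z).hom.Flat}ᶜ))ᶜ,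
    (ι.isClosedMap _ (q.isClosedMap _ (Groth.L20.isOpen_flat_stalkMap q).isClosed_compl)).isOpen_compl⟩
  have hF : ∀ y ∈ T, y ∈ F := by
    rintro y hy ⟨w, ⟨z, hz, rfl⟩, rfl⟩
    apply hz
    have hgen : closure {q z} ∈ irreducibleComponents J.subscheme := by
      refine ⟨isIrreducible_singleton.closure, fun W hW hle => ?_⟩
      obtain ⟨η, hη⟩ := QuasiSober.sober hW.closure isClosed_closure
      have hsp : η ⤳ q z := hη.specializes (subset_closure (hle (subset_closure rfl)))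
      have : η = q z := hιhom.injective (hTgen _ hy _ (hsp.map ι.continuous))
      subst this
      exact (subset_closure : W ⊆ closure W).trans hη.symm.subset
    letI := (isField_stalk_of_closure_mem_irreducibleComponents _ _ hgen).toField
    show (q.stalkMap z).hom.Flat
    algebraize [(q.stalkMap z).hom]
    exact Module.Flat.of_free
  -- first choice
  obtain ⟨h₁, hh₁, hTh₁, hh₁F⟩ := exists_mem_basicOpen j I hI hcl F T hT hF
  let V := j ⁻¹ᵁ PrimeSpectrum.basicOpen h₁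
  obtain ⟨h₂, hh₂, hTh₂, hh₂V⟩ := exists_mem_basicOpen j I hI hcl (Groth.Agent.L24.Quot.core G V) T hT
    fun y hy => (Groth.Agent.L24.Quot.mem_core G).2 fun z hz => hTh₁ (hTsat y hy z hz)
  let D₂ := j ⁻¹ᵁ PrimeSpectrum.basicOpen h₂
  have hD₂V : ∀ x, x ∈ D₂ → x ∈ V := fun x hx =>
    (Groth.Agent.L24.Quot.mem_core G).1 (hh₂V hx) x (Groth.Agent.L24.Quot.rel_refl G x)
  -- the norm
  let Vr : J.subscheme.Opens := ι ⁻¹ᵁ V
  haveI : IsAffine Vr.toScheme := (haff h₁ hh₁).preimage ι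
  haveI : Flat (q ∣_ Vr) := by
    refine (Flat.iff_flat_stalkMap _).mpr fun z => ?_
    refine (RingHom.Flat.respectsIso.arrow_mk_iso_iff (morphismRestrictStalkMap q Vr z)).mpr ?_
    by_contra hz
    exact hh₁F (show ι (q z.1) ∈ V from z.2) ⟨q z.1, ⟨z.1, hz, rfl⟩, rfl⟩
  let t' : (q ⁻¹ᵁ Vr).toScheme ⟶ G.U := (q ⁻¹ᵁ Vr).ι ≫ pullback.fst G.s ι ≫ G.t
  let y : Γ((q ⁻¹ᵁ Vr).toScheme, ⊤) := (t' ≫ j).appTop ((Scheme.ΓSpecIso (CommRingCat.of A)).inv h₂)
  have hy : ∀ z, z ∈ (q ⁻¹ᵁ Vr).toScheme.basicOpen y ↔ t' z ∈ D₂ := fun z => by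
    rw [← Scheme.preimage_basicOpen_top, basicOpen_eq_of_affine (R := CommRingCat.of A)]
    rfl
  have hs : Function.Surjective (q ∣_ Vr) := fun x => by
    obtain ⟨z, hz1, hz2⟩ := Scheme.Pullback.exists_preimage_pullback (f := G.s) (g := ι) (G.e (ι x.1)) x.1
      (by rw [← Scheme.Hom.comp_apply, G.e_s]; rfl)
    exact ⟨⟨z, show q z ∈ Vr from hz2 ▸ x.2⟩, Subtype.ext ((morphismRestrict_base_coe q _ _).trans hz2)⟩
  obtain ⟨N, hN⟩ := Groth.Agent.L24.Quot.exists_nrm_basicOpen (q ∣_ Vr) hs y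
  have key : ∀ x : Vr.toScheme, x ∈ Vr.toScheme.basicOpen N ↔
      ∀ w, Groth.Agent.L24.Quot.Rel G (ι x.1) w → w ∈ D₂ := by
    intro x
    rw [hN]
    constructor
    · rintro h w ⟨r, hr, rfl⟩
      obtain ⟨z, hz1, hz2⟩ := Scheme.Pullback.exists_preimage_pullback (f := G.s) (g := ι) r x.1 hr
      have hzV : z ∈ q ⁻¹ᵁ Vr := show q z ∈ Vr from hz2 ▸ x.2
      have := (hy ⟨z, hzV⟩).1 (h ⟨z, hzV⟩ (Subtype.ext ((morphismRestrict_base_coe q _ _).trans hz2)))
      rw [← hz1]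
      exact this
    · intro h z hz
      refine (hy z).2 (h _ ⟨pullback.fst G.s ι z.1, ?_, rfl⟩)
      have := congrArg Subtype.val hz
      rw [morphismRestrict_base_coe] at this
      rw [← this, ← Scheme.Hom.comp_apply, pullback.condition, Scheme.Hom.comp_apply]
  -- lift the norm to Spec A
  let k : Vr.toScheme ⟶ (Scheme.Opens.toScheme (X := Spec (CommRingCat.of A)) (PrimeSpectrum.basicOpen h₁)) :=
    (ι ∣_ V) ≫ (j ∣_ PrimeSpectrum.basicOpen h₁)
  haveI := isClosedImmersion_restrict j I hcl h₁ hh₁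
  haveI : IsClosedImmersion (ι ∣_ V) := MorphismProperty.of_isPullback
    (isPullback_morphismRestrict ι V).flip inferInstance
  haveI : IsAffine (Scheme.Opens.toScheme (X := Spec (CommRingCat.of A)) (PrimeSpectrum.basicOpen h₁)) :=
      IsAffineOpen.Spec_basicOpen (R := CommRingCat.of A) h₁
  obtain ⟨g, hg⟩ := k.app_surjective ⊤ (isAffineOpen_top _) N
  let D₁ : (Spec (CommRingCat.of A)).Opens := PrimeSpectrum.basicOpen h₁
  obtain ⟨g', rfl⟩ : ∃ g' : Γ(Spec (CommRingCat.of A), D₁), D₁.topIso.inv g' = g :=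
    ⟨D₁.topIso.hom g, D₁.topIso.hom_inv_id_apply g⟩
  obtain ⟨a, ha⟩ : ∃ a : A, ∀ p ∈ D₁, p ∈ (Spec (CommRingCat.of A)).basicOpen g' ↔ p ∈ PrimeSpectrum.basicOpen a :=
    exists_num (R := CommRingCat.of A) h₁ g'
  refine ⟨a * h₁, I.mul_mem_left _ hh₁, haff _ (I.mul_mem_left _ hh₁), ?_⟩
  have hW : ∀ x, x ∈ j ⁻¹ᵁ PrimeSpectrum.basicOpen (a * h₁) ↔
      ∀ w, Groth.Agent.L24.Quot.Rel G x w → w ∈ D₂ := by
    intro x
    have hV : x ∈ V → (j x ∈ PrimeSpectrum.basicOpen a ↔ ∀ w, Groth.Agent.L24.Quot.Rel G x w → w ∈ D₂) := by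
      intro hx
      obtain ⟨y, rfl⟩ := hιsurj x
      refine Iff.trans ?_ (key ⟨y, hx⟩)
      rw [← hg]
      refine Iff.trans ?_ (mem_basicOpen_app k _ ⟨y, hx⟩).symm
      rw [← ha _ hx]
      show _ ↔ k ⟨y, hx⟩ ∈ D₁.toScheme.basicOpen (D₁.topIso.inv g')
      have hk : D₁.ι (k ⟨y, hx⟩) = j (ι y) := by
        show ((ι ∣_ V) ≫ (j ∣_ D₁) ≫ D₁.ι) ⟨y, hx⟩ = _
        rw [morphismRestrict_ι, morphismRestrict_ι_assoc]
        rfl
      rw [← hk]
      have h2 : D₁.ι ''ᵁ D₁.toScheme.basicOpen (D₁.topIso.inv g') = (Spec (CommRingCat.of A)).basicOpen g' := by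
        rw [Scheme.image_basicOpen, Scheme.Opens.topIso_inv, Scheme.Opens.ι_appIso, Iso.refl_inv]
        exact Scheme.basicOpen_res_eq (Spec (CommRingCat.of A)) g' (eqToHom (by simp)).op
      rw [← h2]
      exact D₁.ι.isOpenEmbedding.injective.mem_set_image
    constructor
    · intro hx
      have hx' : x ∈ V := fun h => hx (Ideal.mul_mem_left _ _ h)
      exact (hV hx').1 fun h => hx (Ideal.mul_mem_right _ _ h)
    · intro hx hmem
      have hxV : x ∈ V := hD₂V x (hx x (Groth.Agent.L24.Quot.rel_refl G x))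
      exact ((j x).isPrime.mem_or_mem hmem).elim ((hV hxV).2 hx) hxV
  refine ⟨fun i => (hW _).2 fun w hw => hTh₂ (Set.mem_iUnion.2 ⟨i, hw⟩),
    Groth.Agent.L24.Quot.preimage_eq_of_saturated G fun x y hxy hx => (hW y).2 fun w hw =>
      (hW x).1 hx w (Groth.Agent.L24.Quot.rel_trans G hxy hw)⟩

end L02.Grpd.GenericInvariant
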