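import Groth.Agent.L02.Grpd.SliceFinal
import Groth.Agent.L22.FibreSemicont
import Mathlib.RingTheory.Ideal.KrullsHeightTheorem
import Mathlib.AlgebraicGeometry.Morphisms.Finite
import Mathlib.AlgebraicGeometry.Morphisms.QuasiFinite

/-! Groupoids over a field are equidimensional. -/

set_option autoImplicit false
set_option linter.style.haveILetI false
universe u

open CategoryTheory CategoryTheory.Limits AlgebraicGeometry IsLocalRing TopologicalSpace

namespace L02.Grpd

/-- A flat local homomorphism with zero-dimensional fibre preserves the dimension. -/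
theorem ringKrullDim_eq_of_flat_of_fibre_zero {A B : Type u} [CommRing A] [IsLocalRing A] [CommRing B] [IsLocalRing B]
    [IsNoetherianRing A] [IsNoetherianRing B] (φ : A →+* B) [IsLocalHom φ] (hφ : φ.Flat)
    (h0 : ringKrullDim (B ⧸ (maximalIdeal A).map φ) ≤ 0) : ringKrullDim B = ringKrullDim A := by
  algebraize [φ]
  haveI : (maximalIdeal B).LiesOver (maximalIdeal A) :=
    ⟨(IsLocalRing.maximalIdeal_comap φ).symm⟩
  have h := Ideal.height_eq_height_add_of_liesOver_of_hasGoingDown (maximalIdeal A) (maximalIdeal B)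
  have hne : (maximalIdeal A).map φ ≤ maximalIdeal B := IsLocalRing.map_maximalIdeal_le φ
  haveI : Nontrivial (B ⧸ (maximalIdeal A).map φ) := Ideal.Quotient.nontrivial_iff.mpr fun ht =>
    (maximalIdeal.isMaximal B).ne_top (top_le_iff.mp (ht ▸ hne))
  haveI : IsLocalRing (B ⧸ (maximalIdeal A).map φ) := IsLocalRing.of_surjective' _ Ideal.Quotient.mk_surjective
  have h1 : ((maximalIdeal B).map (Ideal.Quotient.mk ((maximalIdeal A).map (algebraMap A B)))).height = 0 := by
    have := IsLocalRing.maximalIdeal_height_eq_ringKrullDim (R := B ⧸ (maximalIdeal A).map φ)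
    rw [← IsLocalRing.map_maximalIdeal_of_surjective (Ideal.Quotient.mk ((maximalIdeal A).map φ))
      Ideal.Quotient.mk_surjective] at this
    rw [← this] at h0
    exact le_antisymm (WithBot.coe_le_coe.mp h0) zero_le
  rw [h1, add_zero] at h
  rw [← IsLocalRing.maximalIdeal_height_eq_ringKrullDim, ← IsLocalRing.maximalIdeal_height_eq_ringKrullDim, h]

/-- Finite flat morphisms preserve the dimension of local rings. -/
theorem ringKrullDim_stalk_of_finite_flat {X Y : Scheme.{u}} (f : X ⟶ Y) [IsFinite f] [Flat f]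
    [IsLocallyNoetherian X] [IsLocallyNoetherian Y] (x : X) :
    ringKrullDim (X.presheaf.stalk x) = ringKrullDim (Y.presheaf.stalk (f x)) := by
  refine ringKrullDim_eq_of_flat_of_fibre_zero (f.stalkMap x).hom (Flat.stalkMap f x) ?_
  letI := (f.stalkMap x).hom.toAlgebra
  obtain ⟨e⟩ := Groth.L07.CIScheme.exists_fiberStalkEquiv f (f x) (f.asFiber x) x (f.fiberι_asFiber x)
  rw [show ringKrullDim (X.presheaf.stalk x ⧸ (maximalIdeal (Y.presheaf.stalk (f x))).map (f.stalkMap x).hom) = _
    from ringKrullDim_eq_of_ringEquiv e, ← PrimeSpectrum.topologicalKrullDim_eq_ringKrullDim]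
  haveI : DiscreteTopology ↥(f.fiber (f x)) := inferInstance
  exact ((f.fiber (f x)).fromSpecStalk (f.asFiber x)).isEmbedding.isInducing.topologicalKrullDim_le.trans
    (topologicalKrullDim_zero_of_discreteTopology _)

/-- The point and the structure over a field. -/
theorem isIso_fromSpecResidueField {U : Scheme.{u}} {k : Type u} [Field k] (eU : U ≅ Spec (CommRingCat.of k))
    (u : U) : IsIso (U.fromSpecResidueField u) := by
  haveI : Subsingleton U := eU.hom.homeomorph.toEquiv.subsingleton
  haveI : IsReduced U := isReduced_of_isOpenImmersion eU.hom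
  have hcl : IsClosed ({u} : Set U) := isClosed_discrete _
  haveI : IsClosedImmersion (U.fromSpecResidueField u) := isClosed_singleton_iff_isClosedImmersion.mp hcl
  haveI : Surjective (U.fromSpecResidueField u) :=
    ⟨fun v => ⟨IsLocalRing.closedPoint _, Subsingleton.elim _ _⟩⟩
  exact isIso_of_isClosedImmersion_of_surjective _

/-- Isomorphisms preserve the local dimension. -/
theorem localDim_of_homeomorph {X Y : Type*} [TopologicalSpace X] [TopologicalSpace Y] (h : X ≃ₜ Y) (x : X) :
    FlatMor.localDim X x = FlatMor.localDim Y (h x) := by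
  refine le_antisymm (le_iInf fun V => ?_) (le_iInf fun V => ?_)
  · refine iInf_le_of_le ⟨Opens.comap ⟨h, h.continuous⟩ V.1, V.2⟩ ?_
    have hemb : Topology.IsEmbedding (fun z : (h ⁻¹' (V.1 : Set Y) : Set X) => (⟨h z.1, z.2⟩ : (V.1 : Set Y))) :=
      Topology.IsEmbedding.of_comp (by fun_prop) continuous_subtype_val
        (h.isEmbedding.comp Topology.IsEmbedding.subtypeVal)
    exact hemb.isInducing.topologicalKrullDim_le
  · refine iInf_le_of_le ⟨Opens.comap ⟨h.symm, h.symm.continuous⟩ V.1,
      show h.symm (h x) ∈ V.1 by rw [h.symm_apply_apply]; exact V.2⟩ ?_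
    have hemb : Topology.IsEmbedding (fun z : (h.symm ⁻¹' (V.1 : Set X) : Set Y) => (⟨h.symm z.1, z.2⟩ : (V.1 : Set X))) :=
      Topology.IsEmbedding.of_comp (by fun_prop) continuous_subtype_val
        (h.symm.isEmbedding.comp Topology.IsEmbedding.subtypeVal)
    exact hemb.isInducing.topologicalKrullDim_le

variable {S : Scheme.{u}} (G : Grpd.GroupoidScheme S) {k : Type u} [Field k] (eU : G.U ≅ Spec (CommRingCat.of k))
  [LocallyOfFiniteType G.s] [LocallyOfFiniteType G.t]

include eU in
/-- The local dimension at the identity is the dimension of the stabilizer. -/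
theorem localDim_identity (u : G.U) :
    FlatMor.localDim ↥G.R (G.e u) = topologicalKrullDim ↥G.stabilizer := by
  haveI := isIso_fromSpecResidueField eU u
  haveI := lft_stabilizer G
  haveI : IsIso (G.s.fiberι u) := inferInstanceAs (IsIso (pullback.fst G.s (G.U.fromSpecResidueField u)))
  haveI : IsIso (G.stabilizerToU.fiberι u) :=
    inferInstanceAs (IsIso (pullback.fst G.stabilizerToU (G.U.fromSpecResidueField u)))
  have hD : topologicalKrullDim ↥G.stabilizer = topologicalKrullDim ↥(G.stabilizerToU.fiber u) :=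
    ((G.stabilizerToU.fiberι u).homeomorph.isHomeomorph.topologicalKrullDim_eq).symm
  have hse : G.s (G.e u) = u := congrArg (fun m : G.U ⟶ G.U => m u) G.e_s
  obtain ⟨a, ha⟩ := (G.s.range_fiberι u).ge (show G.e u ∈ G.s ⁻¹' {u} from hse)
  haveI : Subsingleton G.U := eU.hom.homeomorph.toEquiv.subsingleton
  letI : G.R.Over (Spec (CommRingCat.of k)) := ⟨G.s ≫ eU.hom⟩
  haveI : LocallyOfFiniteType (G.R ↘ Spec (CommRingCat.of k)) :=
    inferInstanceAs (LocallyOfFiniteType (G.s ≫ eU.hom))
  letI : (G.s.fiber u).Over (Spec (CommRingCat.of (G.U.residueField u))) := ⟨G.s.fiberToSpecResidueField u⟩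
  haveI : LocallyOfFiniteType ((G.s.fiber u) ↘ Spec (CommRingCat.of (G.U.residueField u))) :=
    MorphismProperty.pullback_snd G.s (G.U.fromSpecResidueField u) inferInstance
  have hloc : FlatMor.localDim ↥(G.s.fiber u) a = FlatMor.localDim ↥G.R (G.e u) :=
    (localDim_of_homeomorph (G.s.fiberι u).homeomorph a).trans (by
      show FlatMor.localDim ↥G.R (G.s.fiberι u a) = _
      rw [ha])
  have hasf : FlatMor.fibreDimAt G.s (G.e u) = FlatMor.localDim ↥(G.s.fiber u) a := by
    have key : ∀ (v : G.U) (_ : v = u) (b : G.s.fiber v), G.s.fiberι v b = G.e u →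
        FlatMor.localDim ↥(G.s.fiber v) b = FlatMor.localDim ↥(G.s.fiber u) a := by
      rintro v rfl b hb
      rw [(G.s.fiberι v).isEmbedding.injective (hb.trans ha.symm)]
    exact key _ hse _ (G.s.fiberι_asFiber _)
  refine le_antisymm ?_ ?_
  · rw [← hloc, Groth.L22.FibreSemicont.localDim_eq_iSup (G.U.residueField u), hD]
    exact iSup_le fun η => dim_closure_le_stabilizer G u η.1 a ha η.2 (Subsingleton.elim _ _)
  · rw [hD, ← hloc, ← hasf]
    exact dim_stabilizer_le G u

include eU in
/-- All local rings at closed points have the dimension of the stabilizer. -/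
theorem ringKrullDim_stalk_closed (r : G.R) (hr : IsClosed ({r} : Set G.R)) :
    ringKrullDim (G.R.presheaf.stalk r) = topologicalKrullDim ↥G.stabilizer := by
  haveI : Subsingleton G.U := eU.hom.homeomorph.toEquiv.subsingleton
  haveI : Nonempty G.U := ⟨G.t r⟩
  haveI : IsIntegral G.U := isIntegral_of_isOpenImmersion eU.hom
  haveI : JacobsonSpace G.U := LocallyOfFiniteType.jacobsonSpace eU.hom
  haveI : JacobsonSpace G.R := LocallyOfFiniteType.jacobsonSpace (G.s ≫ eU.hom)
  haveI : IsLocallyNoetherian G.R := LocallyOfFiniteType.isLocallyNoetherian (G.s ≫ eU.hom)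
  let x := G.R.fromSpecResidueField r
  haveI : IsClosedImmersion x := isClosed_singleton_iff_isClosedImmersion.mp hr
  haveI : IsFinite (x ≫ G.t) := isFinite_iff_locallyOfFiniteType_of_jacobsonSpace.mpr inferInstance
  haveI : IsFinite (x ≫ G.s) := isFinite_iff_locallyOfFiniteType_of_jacobsonSpace.mpr inferInstance
  let Pr := pullback (pullback.snd G.s G.t) x
  let A : Pr ⟶ G.R := pullback.fst (pullback.snd G.s G.t) x ≫ pullback.fst G.s G.t
  let B : Pr ⟶ G.R := pullback.fst (pullback.snd G.s G.t) x ≫ G.c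
  have hA : IsPullback A (pullback.snd (pullback.snd G.s G.t) x) G.s (x ≫ G.t) :=
    (IsPullback.of_hasPullback (pullback.snd G.s G.t) x).paste_horiz (IsPullback.of_hasPullback G.s G.t) |>
      fun h => by exact h
  have hB : IsPullback B (pullback.snd (pullback.snd G.s G.t) x) G.s (x ≫ G.s) :=
    (IsPullback.of_hasPullback (pullback.snd G.s G.t) x).paste_horiz (isPullback_c_snd G)
  haveI : IsFinite A := MorphismProperty.of_isPullback hA.flip inferInstance
  haveI : Flat A := MorphismProperty.of_isPullback hA.flip inferInstance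
  haveI : IsFinite B := MorphismProperty.of_isPullback hB.flip inferInstance
  haveI : Flat B := MorphismProperty.of_isPullback hB.flip inferInstance
  haveI : IsLocallyNoetherian Pr := LocallyOfFiniteType.isLocallyNoetherian A
  let u : G.U := G.t r
  let σ : G.R ⟶ pullback G.s G.t := pullback.lift (G.t ≫ G.e) (𝟙 G.R)
    (by rw [Category.assoc, G.e_s, Category.comp_id, Category.id_comp])
  obtain ⟨z, hz, -⟩ := Scheme.Pullback.exists_preimage_pullback (f := pullback.snd G.s G.t) (g := x) (σ r)
    (closedPoint (G.R.residueField r)) (by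
      rw [← Scheme.Hom.comp_apply, show σ ≫ pullback.snd G.s G.t = 𝟙 _ from pullback.lift_snd _ _ _,
        Scheme.fromSpecResidueField_apply]
      rfl)
  have hAz : A z = G.e u := by
    rw [Scheme.Hom.comp_apply, hz, ← Scheme.Hom.comp_apply, show σ ≫ pullback.fst G.s G.t = G.t ≫ G.e from
      pullback.lift_fst _ _ _, Scheme.Hom.comp_apply]
  have hBz : B z = r := by
    rw [Scheme.Hom.comp_apply, hz, ← Scheme.Hom.comp_apply]
    have h1 := G.e_comp (𝟙 G.R)
    simp only [Category.id_comp] at h1
    change mul G (G.t ≫ G.e) (𝟙 G.R) _ = 𝟙 G.R at h1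
    rw [show σ ≫ G.c = mul G (G.t ≫ G.e) (𝟙 G.R) (by rw [Category.assoc, G.e_s, Category.comp_id, Category.id_comp])
      from rfl, h1]
    rfl
  have hdim : ringKrullDim (G.R.presheaf.stalk r) = ringKrullDim (G.R.presheaf.stalk (G.e u)) := by
    rw [← hBz, ← hAz, ← ringKrullDim_stalk_of_finite_flat A z, ← ringKrullDim_stalk_of_finite_flat B z]
  rw [hdim, ← localDim_identity G eU u]
  haveI := isIso_fromSpecResidueField eU u
  have he : IsClosed ({G.e u} : Set G.R) := by
    obtain ⟨a, ha⟩ := (G.s.range_fiberι u).ge (show G.e u ∈ G.s ⁻¹' {u} from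
      congrArg (fun m : G.U ⟶ G.U => m u) G.e_s)
    haveI : IsIso (G.s.fiberι u) := inferInstanceAs (IsIso (pullback.fst G.s (G.U.fromSpecResidueField u)))
    rw [← ha, ← Set.image_singleton]
    exact (G.s.fiberι u).homeomorph.isClosedMap _ (isClosed_identity G u a ha)
  letI : G.R.Over (Spec (CommRingCat.of k)) := ⟨G.s ≫ eU.hom⟩
  haveI : LocallyOfFiniteType (G.R ↘ Spec (CommRingCat.of k)) :=
    inferInstanceAs (LocallyOfFiniteType (G.s ≫ eU.hom))
  obtain ⟨a, b, ha, hb, hloc⟩ := Groth.L22.SchemeDim.exists_localDim k G.R (G.e u)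
  obtain ⟨n, hn, hntr⟩ := Groth.L22.SchemeDim.exists_dim_closure_eq_trdeg k G.R (G.e u)
  rw [he.closure_eq] at hn
  haveI : Unique ({G.e u} : Set G.R) := Set.uniqueSingleton _
  have h2 : (n : WithBot ℕ∞) ≤ 0 := hn ▸ topologicalKrullDim_zero_of_discreteTopology _
  have ha0 : a = 0 := by
    rw [Nat.cast_injective (R := Cardinal) (ha.symm.trans hntr)]
    exact Nat.le_zero.1 (by exact_mod_cast h2)
  rw [hb, hloc, ha0, zero_add]

include eU in
/-- Every component and every local dimension equals the dimension of the stabilizer. -/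
theorem equidimensional :
    (∀ Z ∈ irreducibleComponents ↥G.R, topologicalKrullDim ↥Z = topologicalKrullDim ↥G.stabilizer) ∧
      topologicalKrullDim ↥G.R = topologicalKrullDim ↥G.stabilizer ∧
      ∀ r : G.R, FlatMor.localDim ↥G.R r = topologicalKrullDim ↥G.stabilizer := by
  classical
  haveI : JacobsonSpace G.R := LocallyOfFiniteType.jacobsonSpace (G.s ≫ eU.hom)
  haveI : IsLocallyNoetherian G.R := LocallyOfFiniteType.isLocallyNoetherian (G.s ≫ eU.hom)
  letI : G.R.Over (Spec (CommRingCat.of k)) := ⟨G.s ≫ eU.hom⟩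
  haveI : LocallyOfFiniteType (G.R ↘ Spec (CommRingCat.of k)) :=
    inferInstanceAs (LocallyOfFiniteType (G.s ≫ eU.hom))
  obtain ⟨D, hD⟩ : ∃ D, D = topologicalKrullDim ↥G.stabilizer := ⟨_, rfl⟩
  rw [← hD]
  have hclosed : ∀ c : G.R, IsClosed ({c} : Set G.R) → FlatMor.localDim ↥G.R c = D := fun c hc => by
    obtain ⟨a, b, ha, hb, hloc⟩ := Groth.L22.SchemeDim.exists_localDim k G.R c
    obtain ⟨n, hn, hntr⟩ := Groth.L22.SchemeDim.exists_dim_closure_eq_trdeg k G.R c
    rw [hc.closure_eq] at hn
    haveI : Unique ({c} : Set G.R) := Set.uniqueSingleton _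
    have h2 : (n : WithBot ℕ∞) ≤ 0 := hn ▸ topologicalKrullDim_zero_of_discreteTopology _
    have ha0 : a = 0 := by
      rw [Nat.cast_injective (R := Cardinal) (ha.symm.trans hntr)]
      exact Nat.le_zero.1 (by exact_mod_cast h2)
    rw [hloc, ha0, zero_add, ← hb, ringKrullDim_stalk_closed G eU c hc, hD]
  -- closures of maximal points
  have hmax : ∀ ξ : G.R, (∀ w, w ⤳ ξ → w = ξ) → topologicalKrullDim (closure {ξ} : Set G.R) = D := by
    intro ξ hξ
    obtain ⟨_, ⟨W, hW, rfl⟩, hξW, -⟩ :=
      G.R.isBasis_affineOpens.exists_subset_of_mem_open (Set.mem_univ ξ) isOpen_univ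
    change G.R.Opens at W
    replace hW : IsAffineOpen W := hW
    haveI : IsNoetherianRing Γ(G.R, W) := IsLocallyNoetherian.component_noetherian ⟨W, hW⟩
    haveI : NoetherianSpace (W : Set G.R) := noetherianSpace_of_isAffineOpen W hW
    let w₀ : (W : Set G.R) := ⟨ξ, hξW⟩
    let C : Set (Set (W : Set G.R)) := {K ∈ irreducibleComponents (W : Set G.R) | w₀ ∉ K}
    have hCc : IsClosed (⋃ K ∈ C, K) :=
      ((NoetherianSpace.finite_irreducibleComponents (α := (W : Set G.R))).subset
        (fun K hK => hK.1)).isClosed_biUnion fun K hK => isClosed_of_mem_irreducibleComponents K hK.1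
    have hO : IsOpen (Subtype.val '' (⋃ K ∈ C, K)ᶜ) := W.2.isOpenMap_subtype_val _ hCc.isOpen_compl
    have hξO : ξ ∈ Subtype.val '' (⋃ K ∈ C, K)ᶜ := ⟨w₀, by
      intro h
      obtain ⟨K, hK, hK'⟩ := Set.mem_iUnion₂.mp h
      exact hK.2 hK', rfl⟩
    obtain ⟨c, hc₁, hc₂⟩ := nonempty_inter_closedPoints ⟨ξ, hξO⟩ hO.isLocallyClosed
    obtain ⟨c', hc', rfl⟩ := hc₁
    have honly : ∀ η : G.R, η ⤳ c'.1 → η ∈ closure {ξ} := by
      intro η hη
      have hηW : η ∈ W := hη.mem_open W.2 c'.2
      let η' : (W : Set G.R) := ⟨η, hηW⟩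
      have hη' : η' ⤳ c' := (Topology.IsInducing.subtypeVal.specializes_iff).mp hη
      have hmem : w₀ ∈ irreducibleComponent η' := by
        by_contra hn
        refine hc' (Set.mem_biUnion (show irreducibleComponent η' ∈ C from
          ⟨irreducibleComponent_mem_irreducibleComponents η', hn⟩) ?_)
        exact hη'.mem_closed isClosed_irreducibleComponent mem_irreducibleComponent
      haveI : QuasiSober (W : Set G.R) := W.2.isOpenEmbedding_subtypeVal.quasiSober
      obtain ⟨γ, hγ⟩ := QuasiSober.sober (isIrreducible_irreducibleComponent (x := η')) isClosed_irreducibleComponent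
      have h1 : γ.1 = ξ := hξ _ ((hγ.specializes hmem).map continuous_subtype_val)
      exact (h1 ▸ (hγ.specializes mem_irreducibleComponent).map continuous_subtype_val : ξ ⤳ η).mem_closure
    refine le_antisymm ?_ ?_
    · obtain ⟨c₁, hc₁⟩ : ∃ c₁, c₁ = c'.1 := ⟨_, rfl⟩
      rw [← hclosed _ hc₂, Groth.L22.FibreSemicont.localDim_eq_iSup k]
      have hξc : ξ ⤳ c'.1 := by
        obtain ⟨η, hη⟩ : ∃ η, η = c'.1 := ⟨_, rfl⟩
        exact specializes_iff_mem_closure.mpr (honly _ (specializes_refl _))
      exact le_iSup_of_le ⟨ξ, hξc⟩ le_rfl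
    · rw [← hclosed _ hc₂, Groth.L22.FibreSemicont.localDim_eq_iSup k]
      exact iSup_le fun η => Groth.L22.SchemeDim.topologicalKrullDim_mono
        (closure_minimal (Set.singleton_subset_iff.mpr (honly η.1 η.2)) isClosed_closure)
  have hloc : ∀ r : G.R, FlatMor.localDim ↥G.R r = D := by
    intro r
    rw [Groth.L22.FibreSemicont.localDim_eq_iSup k]
    refine le_antisymm (iSup_le fun η => ?_) ?_
    · obtain ⟨ξ, hξη, hξ⟩ := Groth.L22.FibreDim.exists_maximal_specializes η.1
      rw [← hmax ξ hξ]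
      exact Groth.L22.SchemeDim.topologicalKrullDim_mono
        (closure_minimal (Set.singleton_subset_iff.mpr hξη.mem_closure) isClosed_closure)
    · obtain ⟨ξ, hξr, hξ⟩ := Groth.L22.FibreDim.exists_maximal_specializes r
      exact le_iSup_of_le ⟨ξ, hξr⟩ (hmax ξ hξ).ge
  refine ⟨fun Z hZ => ?_, ?_, hloc⟩
  · obtain ⟨ξ, hξ⟩ := QuasiSober.sober hZ.1 (isClosed_of_mem_irreducibleComponents Z hZ)
    rw [← hξ.def]
    refine hmax ξ fun w hw => ?_
    have hZw : Z ⊆ closure {w} := hξ.def ▸ closure_minimal (Set.singleton_subset_iff.mpr hw.mem_closure) isClosed_closure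
    have hwZ : closure {w} ⊆ Z := hZ.2 isIrreducible_singleton.closure hZw
    have hw' : w ∈ Z := hwZ (subset_closure rfl)
    rw [← hξ.def] at hw'
    exact (hw.antisymm (specializes_iff_mem_closure.mpr hw')).eq
  · obtain ⟨u⟩ : Nonempty G.U := ⟨eU.inv (IsLocalRing.closedPoint k)⟩
    refine le_antisymm ?_ ?_
    · rw [Groth.L22.FibreDim.topologicalKrullDim_eq_iSup_closure]
      refine iSup_le fun z => ?_
      obtain ⟨ξ, hξz, hξ⟩ := Groth.L22.FibreDim.exists_maximal_specializes z
      rw [← hmax ξ hξ]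
      exact Groth.L22.SchemeDim.topologicalKrullDim_mono
        (closure_minimal (Set.singleton_subset_iff.mpr hξz.mem_closure) isClosed_closure)
    · rw [← hloc (G.e u)]
      exact (iInf_le _ ⟨⊤, trivial⟩).trans (topologicalKrullDim_subspace_le _ _)

end L02.Grpd
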