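import Mathlib.RingTheory.Spectrum.Prime.Chevalley
import Mathlib.RingTheory.Flat.TorsionFree
import Mathlib.RingTheory.Ideal.GoingDown
import Mathlib.FieldTheory.IsAlgClosed.AlgebraicClosure
import Mathlib.RingTheory.Jacobson.Ring
import Mathlib.RingTheory.Algebraic.Integral
import Mathlib.RingTheory.FinitePresentation
import Mathlib.RingTheory.RingHom.FiniteType

/-! Algebra for slicing groupoids: ring maps into affine domains all whose values are units or zero. -/

set_option autoImplicit false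
universe u

namespace L02.Grpd

open Polynomial

theorem isAlgebraic_of_units {k A : Type u} [Field k] [CommRing A] [IsDomain A] [Algebra k A]
    [Algebra.FiniteType k A] (x : A) (hx : ∀ n : ℕ, 0 < n → x ^ n - 1 = 0 ∨ IsUnit (x ^ n - 1)) :
    IsAlgebraic k x := by
  classical
  by_contra htr
  let φ : k[X] →ₐ[k] A := Polynomial.aeval x
  have hinj : Function.Injective φ := transcendental_iff_injective.mp htr
  letI : Algebra k[X] A := φ.toRingHom.toAlgebra
  haveI : IsScalarTower k k[X] A := IsScalarTower.of_algebraMap_eq fun r => (φ.commutes r).symm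
  haveI : Algebra.FiniteType k[X] A := Algebra.FiniteType.of_restrictScalars_finiteType k _ _
  haveI : Algebra.FinitePresentation k[X] A := Algebra.FinitePresentation.of_finiteType.mp inferInstance
  haveI : Module.Flat k[X] A := by
    rw [Module.Flat.flat_iff_torsion_eq_bot_of_isBezout, eq_bot_iff]
    intro m hm
    obtain ⟨⟨r, hr⟩, hrm⟩ := hm
    have h2 : φ r * m = 0 := by
      have := hrm
      rw [Submonoid.mk_smul, Algebra.smul_def] at this
      exact this
    rcases mul_eq_zero.mp h2 with h | h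
    · exact absurd ((map_eq_zero_iff φ hinj).mp h) (nonZeroDivisors.ne_zero hr)
    · exact h
  have hopen := (PrimeSpectrum.isOpenMap_comap_of_hasGoingDown_of_finitePresentation
    (R := k[X]) (S := A)).isOpen_range
  obtain ⟨_, ⟨h, rfl⟩, hh, hsub⟩ := PrimeSpectrum.isTopologicalBasis_basic_opens.exists_subset_of_mem_open
    (show (⟨⊥, Ideal.isPrime_bot⟩ : PrimeSpectrum k[X]) ∈ Set.range (PrimeSpectrum.comap (algebraMap k[X] A)) from
      ⟨⟨⊥, Ideal.isPrime_bot⟩, PrimeSpectrum.ext ((RingHom.injective_iff_ker_eq_bot φ.toRingHom).mp hinj)⟩) hopen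
  have hh0 : h ≠ 0 := fun h0 => hh (by rw [h0]; exact (⊥ : Ideal k[X]).zero_mem)
  obtain ⟨n, hn, hnk⟩ : ∃ n : ℕ, h.natDegree < n ∧ (n : k) ≠ 0 := by
    by_cases h1 : ((h.natDegree + 1 : ℕ) : k) = 0
    · refine ⟨h.natDegree + 2, by omega, ?_⟩
      rw [show h.natDegree + 2 = (h.natDegree + 1) + 1 from rfl, Nat.cast_add, h1, Nat.cast_one, zero_add]
      exact one_ne_zero
    · exact ⟨_, Nat.lt_succ_self _, h1⟩
  let K := AlgebraicClosure k
  obtain ⟨r, hr1, hr2⟩ : ∃ r : K, r ^ n = 1 ∧ aeval r h ≠ 0 := by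
    by_contra! hall
    have hnK : (n : K) ≠ 0 := by
      rw [← map_natCast (algebraMap k K)]
      exact fun h0 => hnk ((map_eq_zero _).mp h0)
    have hP : ((X : K[X]) ^ n - C 1).roots.card = n := by
      rw [IsAlgClosed.card_roots_eq_natDegree, natDegree_X_pow_sub_C]
    have hnd : ((X : K[X]) ^ n - C 1).roots.Nodup :=
      nodup_roots (separable_X_pow_sub_C 1 hnK one_ne_zero)
    have hsub : ((X : K[X]) ^ n - C 1).roots.toFinset ⊆ (h.map (algebraMap k K)).roots.toFinset := by
      intro r hr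
      rw [Multiset.mem_toFinset, mem_roots (X_pow_sub_C_ne_zero (by omega) 1)] at hr
      rw [Multiset.mem_toFinset, mem_roots (Polynomial.map_ne_zero hh0), IsRoot.def, eval_map_algebraMap]
      exact hall r (sub_eq_zero.mp (by simpa using hr))
    have := (Finset.card_le_card hsub).trans ((Multiset.toFinset_card_le _).trans (card_roots' _))
    rw [Multiset.toFinset_card_of_nodup hnd, hP, natDegree_map] at this
    omega
  let m : PrimeSpectrum k[X] := ⟨RingHom.ker (aeval r : k[X] →ₐ[k] K).toRingHom, RingHom.ker_isPrime _⟩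
  obtain ⟨Q, hQ⟩ := hsub (show m ∈ (PrimeSpectrum.basicOpen h : Set (PrimeSpectrum k[X])) from hr2)
  have hmem : (X : k[X]) ^ n - 1 ∈ m.asIdeal := by
    show aeval r ((X : k[X]) ^ n - 1) = 0
    simp [hr1]
  rw [← hQ] at hmem
  change φ (X ^ n - 1) ∈ Q.asIdeal at hmem
  rw [map_sub, map_pow, map_one, show φ X = x from aeval_X x] at hmem
  rcases hx n (by omega) with h0 | hu
  · exact htr ⟨X ^ n - C 1, X_pow_sub_C_ne_zero (by omega) 1, by simpa using h0⟩
  · exact Q.isPrime.ne_top (Ideal.eq_top_of_isUnit_mem _ hmem hu)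

/-- An algebraic element of a domain is zero or a unit. -/
theorem eq_zero_of_isAlgebraic {k A K : Type u} [Field k] [CommRing A] [IsDomain A] [Algebra k A]
    [CommRing K] [Nontrivial K] (χ : A →+* K) {d : A} (hd : IsAlgebraic k d) (h0 : χ d = 0) : d = 0 := by
  by_contra hne
  obtain ⟨c, hc, hdvd⟩ := hd.exists_nonzero_dvd (mem_nonZeroDivisors_of_ne_zero hne)
  have hu : IsUnit d := isUnit_of_dvd_unit hdvd ((IsUnit.mk0 c hc).map (algebraMap k A))
  exact not_isUnit_zero (h0 ▸ hu.map χ)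

/-- Two ring maps into an affine domain, one with values in the scalars and the other with values zero or
units after inverting `ψ g`, agree if they agree at a point. -/
theorem eq_of_point {k A K R₀ : Type u} [Field k] [CommRing A] [IsDomain A] [Algebra k A]
    [Algebra.FiniteType k A] [CommRing K] [Nontrivial K] [CommRing R₀] (ψ φ : R₀ →+* A) (χ : A →+* K)
    (hφ : ∀ r, ∃ c : k, φ r = algebraMap k A c) (g : R₀) (hg : IsUnit (χ (ψ g)))
    (hψ : ∀ r, ψ r = 0 ∨ ∃ (c : R₀) (N : ℕ), ψ (r * c) = ψ g ^ N) (hχ : χ.comp ψ = χ.comp φ) : ψ = φ := by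
  have hg0 : ψ g ≠ 0 := fun h => not_isUnit_zero (h ▸ hg |> fun h' => (map_zero χ) ▸ h')
  let A' := Localization.Away (ψ g)
  haveI : IsDomain A' := IsLocalization.isDomain_localization
    (Submonoid.powers_le.mpr (mem_nonZeroDivisors_of_ne_zero hg0))
  have hinj : Function.Injective (algebraMap A A') := IsLocalization.injective _
    (Submonoid.powers_le.mpr (mem_nonZeroDivisors_of_ne_zero hg0))
  haveI : Algebra.FiniteType A A' := IsLocalization.finiteType_of_monoid_fg (Submonoid.powers (ψ g)) A'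
  haveI : Algebra.FiniteType k A' := Algebra.FiniteType.trans (S := A) ‹_› ‹_›
  refine RingHom.ext fun r => hinj ?_
  have hunit : ∀ r, algebraMap A A' (ψ r) = 0 ∨ IsUnit (algebraMap A A' (ψ r)) := by
    intro r
    rcases hψ r with h | ⟨c, N, h⟩
    · exact Or.inl (by rw [h, map_zero])
    · refine Or.inr (isUnit_of_mul_isUnit_left (y := algebraMap A A' (ψ c)) ?_)
      rw [← map_mul, ← map_mul, h, map_pow]
      exact (IsLocalization.Away.algebraMap_isUnit (ψ g)).pow N
  have hx : IsAlgebraic k (algebraMap A A' (ψ r)) := isAlgebraic_of_units _ fun n _ => by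
    have := hunit (r ^ n - 1)
    simpa using this
  obtain ⟨c, hc⟩ := hφ r
  have hy : IsAlgebraic k (algebraMap A A' (φ r)) := by
    rw [hc, ← IsScalarTower.algebraMap_apply]
    exact isAlgebraic_algebraMap c
  refine sub_eq_zero.mp (eq_zero_of_isAlgebraic (IsLocalization.lift (M := Submonoid.powers (ψ g)) (g := χ)
    fun y => ?_) (hx.sub hy) ?_)
  · obtain ⟨_, N, rfl⟩ := y
    rw [map_pow]; exact hg.pow N
  · rw [map_sub, IsLocalization.lift_eq, IsLocalization.lift_eq, ← RingHom.comp_apply, hχ,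
      RingHom.comp_apply, sub_self]

/-- A field finitely generated as a ring over `R₀` inverts a single element. -/
theorem exists_inverting {R₀ κ : Type u} [CommRing R₀] [Field κ] [Algebra R₀ κ] [Algebra.FiniteType R₀ κ]
    (hfrac : ∀ z : κ, ∃ a b, algebraMap R₀ κ b ≠ 0 ∧ z * algebraMap R₀ κ b = algebraMap R₀ κ a) :
    ∃ g : R₀, algebraMap R₀ κ g ≠ 0 ∧ ∀ r : R₀, algebraMap R₀ κ r ≠ 0 →
      ∃ (c : R₀) (N : ℕ), algebraMap R₀ κ (r * c) = algebraMap R₀ κ g ^ N := by
  classical
  obtain ⟨s, hs⟩ := (‹Algebra.FiniteType R₀ κ›).1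
  choose a b hb hab using hfrac
  refine ⟨∏ z ∈ s, b z, ?_, fun r hr => ?_⟩
  · rw [map_prod]; exact Finset.prod_ne_zero_iff.mpr fun z _ => hb z
  set G := algebraMap R₀ κ (∏ z ∈ s, b z)
  suffices h : ∀ z : κ, ∃ (d : R₀) (N : ℕ), z * G ^ N = algebraMap R₀ κ d by
    obtain ⟨d, N, h⟩ := h (algebraMap R₀ κ r)⁻¹
    exact ⟨d, N, by rw [map_mul, ← h, ← mul_assoc, mul_inv_cancel₀ hr, one_mul]⟩
  intro z
  have hz : z ∈ Algebra.adjoin R₀ (s : Set κ) := hs ▸ trivial
  induction hz using Algebra.adjoin_induction with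
  | mem z hz =>
    refine ⟨a z * ∏ w ∈ s.erase z, b w, 1, ?_⟩
    show z * algebraMap R₀ κ (∏ w ∈ s, b w) ^ 1 = _
    rw [pow_one, ← Finset.mul_prod_erase s b hz, map_mul, map_mul, ← mul_assoc, hab]
  | algebraMap r => exact ⟨r, 0, by rw [pow_zero, mul_one]⟩
  | add x y _ _ hx hy =>
    obtain ⟨d, N, hd⟩ := hx
    obtain ⟨e, M, he⟩ := hy
    refine ⟨d * (∏ z ∈ s, b z) ^ M + e * (∏ z ∈ s, b z) ^ N, N + M, ?_⟩
    rw [map_add, map_mul, map_mul, map_pow, map_pow, ← hd, ← he, pow_add]
    ring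
  | mul x y _ _ hx hy =>
    obtain ⟨d, N, hd⟩ := hx
    obtain ⟨e, M, he⟩ := hy
    exact ⟨d * e, N + M, by rw [map_mul, ← hd, ← he, pow_add]; ring⟩

end L02.Grpd
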