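import Groth.Agent.L02.Grpd.SliceMax

/-! Quasi-finite slices. -/

set_option autoImplicit false
set_option linter.style.haveILetI false
universe u

open CategoryTheory CategoryTheory.Limits AlgebraicGeometry IsLocalRing

namespace L02.Grpd

variable {S : Scheme.{u}} (G : Grpd.GroupoidScheme S)

theorem lft_stabilizer [LocallyOfFiniteType G.s] : LocallyOfFiniteType G.stabilizerToU := by
  haveI : IsImmersion (stabι G) := by
    refine MorphismProperty.pullback_fst G.j G.diag ?_
    haveI : IsImmersion (G.diag ≫ pullback.fst G.pU G.pU) := by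
      rw [show G.diag ≫ pullback.fst G.pU G.pU = 𝟙 G.U from pullback.lift_fst _ _ _]; infer_instance
    exact IsImmersion.of_comp G.diag (pullback.fst G.pU G.pU)
  rw [← stabι_s]
  infer_instance

theorem flat_of_cm {X Y : Scheme.{u}} (f : X ⟶ Y) (h : ∀ x, MoreMor.IsCMAt f x) : Flat f :=
  (Flat.iff_flat_stalkMap f).mpr fun x => (h x).1

/-- The quasi-finite locus commutes with base change. -/
theorem quasiFinite_baseChange {X Y Y' : Scheme.{u}} (f : X ⟶ Y) [LocallyOfFiniteType f] (b : Y' ⟶ Y)
    (x : ↑(pullback f b)) :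
    f.QuasiFiniteAt (pullback.fst f b x) ↔ (pullback.snd f b).QuasiFiniteAt x := by
  rw [Scheme.Hom.quasiFiniteAt_iff_isOpen_singleton_asFiber, Scheme.Hom.quasiFiniteAt_iff_isOpen_singleton_asFiber]
  have hbx : b (pullback.snd f b x) = f (pullback.fst f b x) := by
    rw [← Scheme.Hom.comp_apply, ← pullback.condition, Scheme.Hom.comp_apply]
  let y' := pullback.snd f b x
  have hsq := isPullback_fiberToSpecResidueField_of_isPullback (IsPullback.of_hasPullback f b) y'
  let π : (pullback.snd f b).fiber y' ⟶ f.fiber (b y') :=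
    pullback.map (pullback.snd f b) (Y'.fromSpecResidueField y') f (Y.fromSpecResidueField (b y'))
      (pullback.fst f b) (Spec.map (b.residueFieldMap y')) b pullback.condition.symm (by simp)
  haveI : UniversallyOpen π := by
    haveI : UniversallyOpen (Spec.map (b.residueFieldMap y')) := inferInstance
    exact MorphismProperty.of_isPullback hsq.flip inferInstance
  have hπ : f.fiberι (b y') (π ((pullback.snd f b).asFiber x)) = pullback.fst f b x := by
    rw [← Scheme.Hom.comp_apply, show π ≫ f.fiberι (b y') = _ from pullback.lift_fst _ _ _,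
      ]
    exact congrArg (pullback.fst f b) ((pullback.snd f b).fiberι_asFiber x)
  have key : ∀ (s : Y) (_ : s = b y') (a : f.fiber s), f.fiberι s a = pullback.fst f b x →
      (IsOpen ({a} : Set (f.fiber s)) ↔ IsOpen ({π ((pullback.snd f b).asFiber x)} : Set (f.fiber (b y')))) := by
    rintro s rfl a ha
    rw [(f.fiberι (b y')).isEmbedding.injective (ha.trans hπ.symm)]
  rw [key _ hbx.symm _ (f.fiberι_asFiber _)]
  constructor
  · intro ho
    have h1 : f.QuasiFiniteAt (pullback.fst f b x) := by
      rw [Scheme.Hom.quasiFiniteAt_iff_isOpen_singleton_asFiber, key _ hbx.symm _ (f.fiberι_asFiber _)]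
      exact ho
    have h2 : (pullback.snd f b).QuasiFiniteAt x := by
      let V := f.quasiFiniteLocus
      haveI : LocallyQuasiFinite (V.ι ≫ f) := inferInstance
      haveI : LocallyQuasiFinite (pullback.snd (V.ι ≫ f) b) := inferInstance
      let j : pullback (V.ι ≫ f) b ⟶ pullback f b :=
        pullback.map _ _ _ _ V.ι (𝟙 _) (𝟙 _) (by simp) (by simp)
      haveI : IsOpenImmersion j := inferInstance
      obtain ⟨z, hz⟩ : x ∈ Set.range j := by
        rw [Scheme.Pullback.range_map]
        exact ⟨⟨⟨_, h1⟩, rfl⟩, ⟨pullback.snd f b x, rfl⟩⟩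
      rw [← hz, ← Scheme.Hom.quasiFiniteAt_comp_iff_of_isOpenImmersion]
      rw [show j ≫ pullback.snd f b = pullback.snd (V.ι ≫ f) b from (pullback.lift_snd _ _ _).trans (Category.comp_id _)]
      exact Scheme.Hom.quasiFiniteAt _ _
    exact Scheme.Hom.quasiFiniteAt_iff_isOpen_singleton_asFiber.mp h2
  · intro ho
    have := π.isOpenMap _ ho
    rwa [Set.image_singleton] at this

variable [Flat G.s] [LocallyOfFinitePresentation G.s] [Flat G.t] [LocallyOfFinitePresentation G.t]

theorem exists_qf_open {U' : Scheme.{u}} (g : U' ⟶ G.U) [LocallyOfFiniteType g] :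
    ∃ V : U'.Opens, ∀ q, pullback.fst g G.t q ∈ V ↔ (pullback.snd g G.t ≫ G.s).QuasiFiniteAt q := by
  let R : MorphismProperty Scheme.{u} := fun _ _ f => Flat f ∧ LocallyOfFinitePresentation f
  obtain ⟨V, hV⟩ := exists_open_preimage_eq G g @LocallyQuasiFinite @LocallyOfFiniteType R
    (fun f hf => haveI := hf; f.quasiFiniteLocus)
    (fun f hf => by haveI := hf; infer_instance)
    (fun f hf V hV x hx => by
      haveI := hf; haveI := hV
      exact (Scheme.Hom.quasiFiniteAt_comp_iff_of_isOpenImmersion (f := V.ι) (x := ⟨x, hx⟩)).mp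
        ((V.ι ≫ f).quasiFiniteAt ⟨x, hx⟩))
    (fun f hf b hb hf' => by
      haveI := hf
      ext x
      exact quasiFinite_baseChange f b x)
    ⟨inferInstance, inferInstance⟩ ⟨inferInstance, inferInstance⟩ inferInstance
  exact ⟨V, fun q => SetLike.ext_iff.mp hV q⟩

/-- A point of fibre dimension zero, closed in its fibre, is quasi-finite. -/
theorem quasiFiniteAt_of_fibreDim_zero {X Y : Scheme.{u}} (f : X ⟶ Y) [LocallyOfFiniteType f] (x : X)
    (hcl : IsClosed ({f.asFiber x} : Set ↑(f.fiber (f x)))) (h : FlatMor.fibreDimAt f x ≤ 0) :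
    f.QuasiFiniteAt x := by
  rw [L02.CMMor.fibreDimAt_of_closed f x hcl] at h
  rw [Scheme.Hom.quasiFiniteAt_iff_isOpen_singleton_asFiber]
  let F := f.fiber (f x)
  haveI : LocallyOfFiniteType (f.fiberToSpecResidueField (f x)) :=
    MorphismProperty.pullback_snd f (Y.fromSpecResidueField (f x)) inferInstance
  haveI : IsLocallyNoetherian F := LocallyOfFiniteType.isLocallyNoetherian (f.fiberToSpecResidueField (f x))
  have hgen : ∀ w : F, w ⤳ f.asFiber x → w = f.asFiber x := by
    intro w hw
    have hw' : w ∈ Set.range (F.fromSpecStalk (f.asFiber x)) := by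
      rw [Scheme.range_fromSpecStalk]; exact hw
    obtain ⟨P, rfl⟩ := hw'
    haveI : Ring.KrullDimLE 0 (F.presheaf.stalk (f.asFiber x)) := Ring.krullDimLE_iff.mpr h
    have hP : P = closedPoint (F.presheaf.stalk (f.asFiber x)) :=
      PrimeSpectrum.ext (IsLocalRing.eq_maximalIdeal (Ideal.IsPrime.isMaximal' P.2))
    rw [hP, Scheme.fromSpecStalk_closedPoint]
  obtain ⟨_, ⟨W, hW, rfl⟩, hxW, -⟩ :=
    F.isBasis_affineOpens.exists_subset_of_mem_open (Set.mem_univ (f.asFiber x)) isOpen_univ
  change F.Opens at W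
  replace hW : IsAffineOpen W := hW
  haveI : IsNoetherianRing Γ(F, W) := IsLocallyNoetherian.component_noetherian ⟨W, hW⟩
  haveI : TopologicalSpace.NoetherianSpace (W : Set F) := noetherianSpace_of_isAffineOpen W hW
  -- the point is a whole irreducible component of `W`, and it is closed
  let w₀ : (W : Set F) := ⟨_, hxW⟩
  let C : Set (Set (W : Set F)) := {K ∈ irreducibleComponents (W : Set F) | w₀ ∉ K}
  have hCc : IsClosed (⋃ K ∈ C, K) :=
    ((TopologicalSpace.NoetherianSpace.finite_irreducibleComponents (α := (W : Set F))).subset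
      (fun K hK => hK.1)).isClosed_biUnion fun K hK => isClosed_of_mem_irreducibleComponents K hK.1
  have heq : (⋃ K ∈ C, K)ᶜ = ({w₀} : Set (W : Set F)) := by
    ext z
    constructor
    · intro hz
      have hmem : w₀ ∈ irreducibleComponent z := by
        by_contra hn
        exact hz (Set.mem_biUnion (show irreducibleComponent z ∈ C from
          ⟨irreducibleComponent_mem_irreducibleComponents z, hn⟩) mem_irreducibleComponent)
      haveI : QuasiSober (W : Set F) := W.2.isOpenEmbedding_subtypeVal.quasiSober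
      obtain ⟨η, hη⟩ := QuasiSober.sober (isIrreducible_irreducibleComponent (x := z)) isClosed_irreducibleComponent
      have h1 : η.1 = f.asFiber x := hgen _ ((hη.specializes hmem).map continuous_subtype_val)
      have h2 : f.asFiber x ⤳ z.1 := h1 ▸ (hη.specializes mem_irreducibleComponent).map continuous_subtype_val
      have h3 := h2.mem_closure
      rw [hcl.closure_eq] at h3
      exact Subtype.ext h3
    · rintro rfl hz
      obtain ⟨K, hK, hzK⟩ := Set.mem_iUnion₂.mp hz
      exact hK.2 hzK
  have := W.2.isOpenMap_subtype_val _ hCc.isOpen_compl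
  rwa [heq, Set.image_singleton] at this

/-- The maximal slice is quasi-finite when the stabilizer is. -/
theorem exists_max_qf [LocallyQuasiFinite G.stabilizerToU] (u : G.U)
    [LocallyOfFiniteType (G.U.fromSpecResidueField u)] (hs : MoreMor.IsCMAt G.s (G.e u)) :
    ∃ (U' : Scheme.{u}) (_ : IsAffine U') (g : U' ⟶ G.U) (u' : U'),
      IsImmersion g ∧ LocallyOfFinitePresentation g ∧ g u' = u ∧ Flat (pullback.snd g G.t ≫ G.s) ∧
      LocallyQuasiFinite (pullback.snd g G.t ≫ G.s) := by
  haveI := lft_stabilizer G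
  obtain ⟨V, hV, g, p, hg, hgl, h3, h4, h5, -, -, h6⟩ := exists_max G u hs
  obtain ⟨O, hO⟩ := exists_qf_open G g
  have hzero : topologicalKrullDim ↥(G.stabilizerToU.fiber u) ≤ 0 := by
    haveI : DiscreteTopology ↥(G.stabilizerToU.fiber u) := inferInstance
    exact topologicalKrullDim_zero_of_discreteTopology _
  have hqf := quasiFiniteAt_of_fibreDim_zero (pullback.snd g G.t ≫ G.s) p (isClosed_slice_point G g u p h4)
    (h6.trans_le hzero)
  obtain ⟨_, ⟨W, hW, rfl⟩, hpW, hWO⟩ := V.isBasis_affineOpens.exists_subset_of_mem_open ((hO p).mpr hqf) O.2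
  change V.Opens at W
  replace hW : IsAffineOpen W := hW
  let j : pullback (W.ι ≫ g) G.t ⟶ pullback g G.t :=
    pullback.lift (pullback.fst _ _ ≫ W.ι) (pullback.snd _ _) (by rw [Category.assoc, pullback.condition])
  have hj2 : j ≫ pullback.snd g G.t = pullback.snd (W.ι ≫ g) G.t := pullback.lift_snd _ _ _
  have hj1 : j ≫ pullback.fst g G.t = pullback.fst (W.ι ≫ g) G.t ≫ W.ι := pullback.lift_fst _ _ _
  have hsq : IsPullback (pullback.fst (W.ι ≫ g) G.t) j W.ι (pullback.fst g G.t) :=
    IsPullback.of_bot (by rw [hj2]; exact IsPullback.of_hasPullback (W.ι ≫ g) G.t) hj1.symm (IsPullback.of_hasPullback g G.t)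
  haveI : IsOpenImmersion j := MorphismProperty.of_isPullback hsq inferInstance
  have hcomp : j ≫ pullback.snd g G.t ≫ G.s = pullback.snd (W.ι ≫ g) G.t ≫ G.s := by rw [← Category.assoc, hj2]
  refine ⟨W, hW, W.ι ≫ g, ⟨_, hpW⟩, inferInstance, inferInstance, h3, ?_, ?_⟩
  · rw [← hcomp]
    haveI := flat_of_cm _ h5
    infer_instance
  · rw [← hcomp, ← Scheme.Hom.quasiFiniteLocus_eq_top_iff, Scheme.Hom.quasiFiniteLocus_comp, eq_top_iff]
    intro q _
    show (pullback.snd g G.t ≫ G.s).QuasiFiniteAt (j q)
    refine (hO _).1 ?_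
    rw [← Scheme.Hom.comp_apply, hj1]
    exact hWO (pullback.fst (W.ι ≫ g) G.t q).2

end L02.Grpd
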