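import Groth.Agent.L02.Grpd.Algebra
import Groth.Agent.L08.GrpDim
import Mathlib.CategoryTheory.Monoidal.Cartesian.Grp
import Mathlib.Algebra.Group.MinimalAxioms

/-! The stabilizer over any base point is a group scheme. -/

set_option autoImplicit false
universe u

open CategoryTheory CategoryTheory.Limits AlgebraicGeometry MonoidalCategory MonObj CartesianMonoidalCategory

namespace L02.Grpd

variable {S : Scheme.{u}} (G : Grpd.GroupoidScheme S) {P : Scheme.{u}} (x : P ⟶ G.U)

/-- Points of the stabilizer above `x`. -/
@[ext] structure StabPt (T : Over P) where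
  arr : T.left ⟶ G.R
  tgt : arr ≫ G.t = T.hom ≫ x
  src : arr ≫ G.s = T.hom ≫ x

variable {G x}

theorem StabPt.comp_ok {T : Over P} (a b : StabPt G x T) : a.arr ≫ G.s = b.arr ≫ G.t := a.src.trans b.tgt.symm

noncomputable instance (T : Over P) : One (StabPt G x T) :=
  ⟨⟨T.hom ≫ x ≫ G.e, by simp [G.e_t], by simp [G.e_s]⟩⟩

noncomputable instance (T : Over P) : Mul (StabPt G x T) :=
  ⟨fun a b => ⟨mul G a.arr b.arr (a.comp_ok b), by rw [mul_t]; exact a.tgt, by rw [mul_s]; exact b.src⟩⟩

noncomputable instance (T : Over P) : Inv (StabPt G x T) :=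
  ⟨fun a => ⟨a.arr ≫ G.i, (inv_t G a.arr).trans a.src, (inv_s G a.arr).trans a.tgt⟩⟩

noncomputable instance (T : Over P) : Group (StabPt G x T) :=
  Group.ofLeftAxioms
    (fun a b c => StabPt.ext (mul_assoc' G a.arr b.arr c.arr (a.comp_ok b) (b.comp_ok c)))
    (fun a => StabPt.ext ((mul_congr G (by
      show T.hom ≫ x ≫ G.e = _
      rw [← Category.assoc, ← a.tgt, Category.assoc]) rfl _ (by simp [G.e_s])).trans (G.e_comp a.arr)))
    (fun a => StabPt.ext ((G.i_comp a.arr).trans (by
      show a.arr ≫ G.s ≫ G.e = T.hom ≫ x ≫ G.e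
      rw [← Category.assoc, a.src, Category.assoc])))

/-- The functor of points of the stabilizer above `x`. -/
noncomputable def stabFunctor : (Over P)ᵒᵖ ⥤ GrpCat.{u} where
  obj T := GrpCat.of (StabPt G x T.unop)
  map {T T'} f := GrpCat.ofHom
    { toFun := fun a => ⟨f.unop.left ≫ a.arr, by rw [Category.assoc, a.tgt, ← Category.assoc, Over.w],
        by rw [Category.assoc, a.src, ← Category.assoc, Over.w]⟩
      map_one' := StabPt.ext (by
        show f.unop.left ≫ T.unop.hom ≫ x ≫ G.e = T'.unop.hom ≫ x ≫ G.e
        rw [← Category.assoc, Over.w])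
      map_mul' := fun a b => StabPt.ext (comp_mul G f.unop.left a.arr b.arr (a.comp_ok b)) }
  map_id T := GrpCat.hom_ext <| MonoidHom.ext fun a => StabPt.ext (Category.id_comp a.arr)
  map_comp {T T' T''} f g := GrpCat.hom_ext <| MonoidHom.ext fun a => StabPt.ext (Category.assoc _ _ a.arr)

variable (G x)

/-- The stabilizer above `x`, over `P`. -/
noncomputable abbrev stabOver : Over P := Over.mk (pullback.snd G.stabilizerToU x)

noncomputable def stabRep : ((stabFunctor (G := G) (x := x)) ⋙ forget GrpCat).RepresentableBy (stabOver G x) where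
  homEquiv {T} :=
    { toFun := fun f => ⟨f.left ≫ pullback.fst G.stabilizerToU x ≫ stabι G,
        by rw [Category.assoc, Category.assoc, stabι_t, pullback.condition, ← Category.assoc f.left]
           exact congrArg (· ≫ x) (Over.w f),
        by rw [Category.assoc, Category.assoc, stabι_s, pullback.condition, ← Category.assoc f.left]
           exact congrArg (· ≫ x) (Over.w f)⟩
      invFun := fun (a : StabPt G x T) => Over.homMk (pullback.lift (stabLift G a.arr (a.tgt.trans a.src.symm)) T.hom
        (by rw [stabLift_toU, a.src])) (pullback.lift_snd _ _ _)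
      left_inv := fun f => by
        ext1
        apply pullback.hom_ext
        · show pullback.lift _ _ _ ≫ _ = _
          rw [pullback.lift_fst]
          apply stab_ext
          exact (stabLift_ι G _ _).trans (Category.assoc _ _ _).symm
        · show pullback.lift _ _ _ ≫ _ = _
          rw [pullback.lift_snd]
          exact (Over.w f).symm
      right_inv := fun (a : StabPt G x T) => StabPt.ext (by
        show pullback.lift _ _ _ ≫ _ = _
        rw [pullback.lift_fst_assoc, stabLift_ι]) }
  homEquiv_comp {T T'} f g := StabPt.ext (Category.assoc f.left g.left _)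

noncomputable instance stabGrpObj : GrpObj (stabOver G x) := GrpObj.ofRepresentableBy _ _ (stabRep G x)

/-- The stabilizer over a point has the dimension of its local ring at the identity. -/
theorem ringKrullDim_stabilizer_one (u : G.U) [LocallyOfFiniteType G.stabilizerToU]
    (b : G.stabilizerToU.fiber u) (hb : IsClosed ({b} : Set ↥(G.stabilizerToU.fiber u))) :
    ringKrullDim ((G.stabilizerToU.fiber u).presheaf.stalk b) = topologicalKrullDim ↥(G.stabilizerToU.fiber u) := by
  have hl : LocallyOfFiniteType (stabOver G (G.U.fromSpecResidueField u)).hom :=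
    MorphismProperty.pullback_snd G.stabilizerToU (G.U.fromSpecResidueField u) ‹_›
  exact @Groth.L08.GrpDim.ringKrullDim_stalk _ _ (stabOver G (G.U.fromSpecResidueField u)) _ hl b hb

end L02.Grpd
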