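import Groth.Agent.L02.Grpd.SliceStep
import Groth.Agent.L02.Grpd.StabGroup
import Groth.Agent.L02.Grpd.Invariant
import Groth.Agent.L02.CMMor.Groupoid
import Groth.Agent.L07.SyntDim
import Groth.Agent.L20.FlatStalk
import Mathlib.AlgebraicGeometry.ZariskisMainTheorem
import Mathlib.AlgebraicGeometry.Morphisms.UniversallyOpen

/-! Maximal slices of groupoids. -/

set_option autoImplicit false
set_option linter.style.haveILetI false
universe u

open CategoryTheory CategoryTheory.Limits AlgebraicGeometry IsLocalRing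

namespace L02.Grpd

variable {S : Scheme.{u}} (G : Grpd.GroupoidScheme S)

/-- The trivial slice: an affine open around the point. -/
theorem exists_initial [LocallyOfFinitePresentation G.s] (u : G.U)
    (hs : MoreMor.IsCMAt G.s (G.e u)) :
    ∃ (V : Scheme.{u}) (_ : IsAffine V) (g : V ⟶ G.U) (p : ↑(pullback g G.t)),
      IsImmersion g ∧ LocallyOfFinitePresentation g ∧ g (pullback.fst g G.t p) = u ∧
      pullback.snd g G.t p = G.e u ∧ MoreMor.IsCMAt (pullback.snd g G.t ≫ G.s) p ∧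
      FlatMor.fibreDimAt (pullback.snd g G.t ≫ G.s) p = FlatMor.fibreDimAt G.s (G.e u) := by
  obtain ⟨_, ⟨V, hV, rfl⟩, huV, -⟩ := G.U.isBasis_affineOpens.exists_subset_of_mem_open (Set.mem_univ u) isOpen_univ
  change G.U.Opens at V
  replace hV : IsAffineOpen V := hV
  have hte : G.t (G.e u) = u := congrArg (fun m : G.U ⟶ G.U => m u) G.e_t
  obtain ⟨p, hp1, hp2⟩ := Scheme.Pullback.exists_preimage_pullback (f := V.ι) (g := G.t) ⟨u, huV⟩ (G.e u) hte.symm
  haveI : IsOpenImmersion (pullback.snd V.ι G.t) := inferInstance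
  refine ⟨V, hV, V.ι, p, inferInstance, inferInstance, by rw [hp1]; rfl, hp2, ?_, ?_⟩
  · rw [L02.CMMor.isCMAt_openImmersion_comp, hp2]
    exact hs
  · have := Groth.L07.SyntDim.fibreDimAt_congr G.s (pullback.snd V.ι G.t ≫ G.s) (pullback.snd V.ι G.t) (𝟙 G.U)
      (Category.comp_id _).symm p
    rw [hp2] at this
    exact this.symm

/-- The stabilizer is no bigger than the source fibre at the identity. -/
theorem dim_stabilizer_le [LocallyOfFiniteType G.s] [LocallyOfFiniteType G.stabilizerToU] (u : G.U) :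
    topologicalKrullDim ↥(G.stabilizerToU.fiber u) ≤ FlatMor.fibreDimAt G.s (G.e u) := by
  have hse : G.s (G.e u) = u := congrArg (fun m : G.U ⟶ G.U => m u) G.e_s
  suffices H : ∀ x : G.R, x = G.e u →
      topologicalKrullDim ↥(G.stabilizerToU.fiber (G.s x)) ≤ FlatMor.fibreDimAt G.s x by
    have := H _ rfl
    rwa [hse] at this
  intro x hx
  have hsx : G.s x = u := hx ▸ hse
  obtain ⟨y, hy⟩ : ∃ y : G.stabilizer, stabι G y = x ∧ G.stabilizerToU y = G.s x := by
    refine ⟨stabLift G G.e (by rw [G.e_t, G.e_s]) u, ?_, ?_⟩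
    · rw [← Scheme.Hom.comp_apply, stabLift_ι, hx]
    · rw [← Scheme.Hom.comp_apply, stabLift_toU, G.e_s, hsx]
      rfl
  have hcl₀ : IsClosed ({G.s.asFiber x} : Set ↑(G.s.fiber (G.s x))) := by
    obtain ⟨a, ha⟩ := (G.s.range_fiberι u).ge (show G.e u ∈ G.s ⁻¹' {u} from hse)
    exact L02.CMMor.isClosed_asFiber G.s u a x (ha.trans hx.symm) (isClosed_identity G u a ha)
  rw [L02.CMMor.fibreDimAt_of_closed G.s x hcl₀]
  obtain ⟨b, hb⟩ := (G.stabilizerToU.range_fiberι (G.s x)).ge (show y ∈ G.stabilizerToU ⁻¹' {G.s x} from hy.2)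
  haveI : IsImmersion (stabι G) := by
    refine MorphismProperty.pullback_fst G.j G.diag ?_
    haveI : IsImmersion (G.diag ≫ pullback.fst G.pU G.pU) := by
      rw [show G.diag ≫ pullback.fst G.pU G.pU = 𝟙 G.U from pullback.lift_fst _ _ _]; infer_instance
    exact IsImmersion.of_comp G.diag (pullback.fst G.pU G.pU)
  let m : G.stabilizerToU.fiber (G.s x) ⟶ G.s.fiber (G.s x) :=
    pullback.lift (G.stabilizerToU.fiberι _ ≫ stabι G) (G.stabilizerToU.fiberToSpecResidueField _)
      (by rw [Category.assoc, stabι_s]; exact pullback.condition)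
  have hm : m ≫ G.s.fiberι _ = G.stabilizerToU.fiberι _ ≫ stabι G := pullback.lift_fst _ _ _
  haveI : IsPreimmersion m := by
    haveI : IsPreimmersion (m ≫ G.s.fiberι (G.s x)) := by rw [hm]; infer_instance
    exact IsPreimmersion.of_comp m (G.s.fiberι (G.s x))
  have hmb : m b = G.s.asFiber x := (G.s.fiberι _).isEmbedding.injective (by
    rw [G.s.fiberι_asFiber, ← Scheme.Hom.comp_apply, hm, Scheme.Hom.comp_apply, hb]
    exact hy.1)
  have hbc : IsClosed ({b} : Set ↥(G.stabilizerToU.fiber (G.s x))) := by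
    have : ({b} : Set ↥(G.stabilizerToU.fiber (G.s x))) = m ⁻¹' {G.s.asFiber x} := by
      ext z
      simp only [Set.mem_singleton_iff, Set.mem_preimage, ← hmb]
      exact ⟨fun h => by rw [h], fun h => m.isEmbedding.injective h⟩
    rw [this]
    exact hcl₀.preimage m.continuous
  rw [← ringKrullDim_stabilizer_one G _ b hbc, ← hmb]
  exact ringKrullDim_le_of_surjective _ (m.stalkMap_surjective b)

/-- The Cohen–Macaulay locus, without assuming flatness. -/
theorem isOpen_cm {X Y : Scheme.{u}} (f : X ⟶ Y) [LocallyOfFinitePresentation f] :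
    IsOpen {x : X | MoreMor.IsCMAt f x} := by
  let V : X.Opens := ⟨{x | (f.stalkMap x).hom.Flat}, Groth.L20.isOpen_flat_stalkMap f⟩
  haveI : Flat (V.ι ≫ f) := by
    refine (Flat.iff_flat_stalkMap _).mpr fun x => ?_
    rw [Scheme.Hom.stalkMap_comp]
    exact RingHom.Flat.comp x.2 (RingHom.Flat.of_bijective
      (ConcreteCategory.bijective_of_isIso (V.ι.stalkMap x)))
  have h : {x : X | MoreMor.IsCMAt f x} = V.ι '' {x | MoreMor.IsCMAt (V.ι ≫ f) x} := by
    ext x
    constructor
    · intro hx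
      exact ⟨⟨x, hx.1⟩, (L02.CMMor.isCMAt_openImmersion_comp V.ι f _).2 hx, rfl⟩
    · rintro ⟨y, hy, rfl⟩
      exact (L02.CMMor.isCMAt_openImmersion_comp V.ι f y).1 hy
  rw [h]
  exact V.ι.isOpenEmbedding.isOpenMap _ (L02.CMMor.isOpen_cmLocus _)

theorem cm_preimage {X Y Y' : Scheme.{u}} (f : X ⟶ Y) [LocallyOfFinitePresentation f] (b : Y' ⟶ Y) [Flat b]
    [LocallyOfFinitePresentation b] (x : ↑(pullback f b)) :
    MoreMor.IsCMAt f (pullback.fst f b x) ↔ MoreMor.IsCMAt (pullback.snd f b) x := by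
  haveI : ∀ y, IsLocallyNoetherian (f.fiber y) := fun y =>
    haveI : LocallyOfFiniteType (f.fiberToSpecResidueField y) :=
      MorphismProperty.pullback_snd f (Y.fromSpecResidueField y) inferInstance
    LocallyOfFiniteType.isLocallyNoetherian (f.fiberToSpecResidueField y)
  obtain ⟨h1, -, h3⟩ := L02.CMMor.isCMAt_baseChange_fg f b (pullback.snd f b) (pullback.fst f b)
    (IsPullback.of_hasPullback f b) x
  exact ⟨h1, h3 (Flat.stalkMap b _)⟩

/-- The Cohen–Macaulay locus of `h` is pulled back from `U'`. -/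
theorem exists_cm_open [Flat G.s] [LocallyOfFinitePresentation G.s] [Flat G.t] [LocallyOfFinitePresentation G.t]
    {U' : Scheme.{u}} (g : U' ⟶ G.U) [LocallyOfFinitePresentation g] :
    ∃ V : U'.Opens, ∀ q, pullback.fst g G.t q ∈ V ↔ MoreMor.IsCMAt (pullback.snd g G.t ≫ G.s) q := by
  let P : MorphismProperty Scheme.{u} := fun _ _ f => ∀ x, MoreMor.IsCMAt f x
  haveI : P.RespectsIso := MorphismProperty.RespectsIso.mk _
    (fun e f hf x => (L02.CMMor.isCMAt_openImmersion_comp e.hom f x).2 (hf _))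
    (fun e f hf x => (L02.CMMor.isCMAt_comp_iso f e.hom x).2 (hf x))
  let R : MorphismProperty Scheme.{u} := fun _ _ f => Flat f ∧ LocallyOfFinitePresentation f
  obtain ⟨V, hV⟩ := exists_open_preimage_eq G g P @LocallyOfFinitePresentation R
    (fun f hf => haveI := hf; ⟨{x | MoreMor.IsCMAt f x}, isOpen_cm f⟩)
    (fun f hf x => (L02.CMMor.isCMAt_openImmersion_comp _ f x).2 x.2)
    (fun f hf V hV x hx => (L02.CMMor.isCMAt_openImmersion_comp V.ι f ⟨x, hx⟩).1 (hV ⟨x, hx⟩))
    (fun f hf b hb hf' => by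
      haveI := hf; haveI := hb.1; haveI := hb.2
      ext x
      exact cm_preimage f b x)
    ⟨inferInstance, inferInstance⟩ ⟨inferInstance, inferInstance⟩ inferInstance
  exact ⟨V, fun q => SetLike.ext_iff.mp hV q⟩

theorem residueFieldMap_bijective {X Y : Scheme.{u}} (f : X ⟶ Y) [IsPreimmersion f] (x : X) :
    Function.Bijective (f.residueFieldMap x).hom := by
  refine ⟨RingHom.injective _, fun z => ?_⟩
  obtain ⟨w, rfl⟩ := X.residue_surjective x z
  obtain ⟨v, rfl⟩ := f.stalkMap_surjective x w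
  exact ⟨Y.residue (f x) v, congrArg (fun m : Y.presheaf.stalk (f x) ⟶ X.residueField x => m v)
    (Scheme.residue_residueFieldMap f x)⟩

/-- The swap of the restricted groupoid exchanges source and target. -/
theorem exists_swap {U' : Scheme.{u}} (g : U' ⟶ G.U) :
    ∃ σ : pullback (pullback.snd g G.t ≫ G.s) g ≅ pullback (pullback.snd g G.t ≫ G.s) g,
      σ.hom ≫ pullback.snd (pullback.snd g G.t ≫ G.s) g =
        pullback.fst (pullback.snd g G.t ≫ G.s) g ≫ pullback.fst g G.t := by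
  let h := pullback.snd g G.t ≫ G.s
  let σ : pullback h g ⟶ pullback h g := pullback.lift
    (pullback.lift (pullback.snd h g) (pullback.fst h g ≫ pullback.snd g G.t ≫ G.i) (by
      simp only [Category.assoc, G.i_t]; exact pullback.condition.symm))
    (pullback.fst h g ≫ pullback.fst g G.t) (by
      simp only [h, pullback.lift_snd_assoc, Category.assoc, G.i_s, pullback.condition])
  have h1 : σ ≫ pullback.snd h g = pullback.fst h g ≫ pullback.fst g G.t := pullback.lift_snd _ _ _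
  have h2 : σ ≫ pullback.fst h g ≫ pullback.fst g G.t = pullback.snd h g := by
    rw [← Category.assoc, pullback.lift_fst, pullback.lift_fst]
  have h3 : σ ≫ pullback.fst h g ≫ pullback.snd g G.t = pullback.fst h g ≫ pullback.snd g G.t ≫ G.i := by
    rw [← Category.assoc, pullback.lift_fst, pullback.lift_snd]
  have hσ : σ ≫ σ = 𝟙 _ := by
    apply pullback.hom_ext
    · apply pullback.hom_ext
      · simp only [Category.assoc, Category.id_comp, h2, h1]
      · simp only [Category.assoc, Category.id_comp, h3]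
        rw [reassoc_of% h3, L02.CMMor.i_i, Category.comp_id]
    · simp only [Category.assoc, Category.id_comp, h1, h2]
  exact ⟨⟨σ, σ, hσ, hσ⟩, h1⟩

variable [Flat G.s] [LocallyOfFinitePresentation G.s] [Flat G.t] [LocallyOfFinitePresentation G.t]

/-- Iterated slicing. -/
theorem exists_minimal [LocallyOfFiniteType G.stabilizerToU] (u : G.U)
    [LocallyOfFiniteType (G.U.fromSpecResidueField u)] (hs : MoreMor.IsCMAt G.s (G.e u)) :
    ∃ (V : Scheme.{u}) (_ : IsAffine V) (g : V ⟶ G.U) (p : ↑(pullback g G.t)),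
      IsImmersion g ∧ LocallyOfFinitePresentation g ∧ g (pullback.fst g G.t p) = u ∧
      pullback.snd g G.t p = G.e u ∧ MoreMor.IsCMAt (pullback.snd g G.t ≫ G.s) p ∧
      FlatMor.fibreDimAt (pullback.snd g G.t ≫ G.s) p = topologicalKrullDim ↥(G.stabilizerToU.fiber u) := by
  suffices H : ∀ (d : ℕ) (V : Scheme.{u}) (_ : IsAffine V) (g : V ⟶ G.U) (_ : IsImmersion g)
      (_ : LocallyOfFinitePresentation g) (p : ↑(pullback g G.t)), g (pullback.fst g G.t p) = u →
      pullback.snd g G.t p = G.e u → MoreMor.IsCMAt (pullback.snd g G.t ≫ G.s) p →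
      FlatMor.fibreDimAt (pullback.snd g G.t ≫ G.s) p = (d : WithBot ℕ∞) →
      topologicalKrullDim ↥(G.stabilizerToU.fiber u) ≤ (d : WithBot ℕ∞) →
      ∃ (V : Scheme.{u}) (_ : IsAffine V) (g : V ⟶ G.U) (p : ↑(pullback g G.t)),
        IsImmersion g ∧ LocallyOfFinitePresentation g ∧ g (pullback.fst g G.t p) = u ∧
        pullback.snd g G.t p = G.e u ∧ MoreMor.IsCMAt (pullback.snd g G.t ≫ G.s) p ∧
        FlatMor.fibreDimAt (pullback.snd g G.t ≫ G.s) p = topologicalKrullDim ↥(G.stabilizerToU.fiber u) by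
    obtain ⟨V, hV, g, p, h1, h2, h3, h4, h5, h6⟩ := exists_initial G u hs
    haveI := h5.2
    have hcl := isClosed_slice_point G g u p h4
    have hd := L02.CMMor.fibreDimAt_of_closed (pullback.snd g G.t ≫ G.s) p hcl
    obtain ⟨d, hdd⟩ := Groth.L01.exists_dim_eq_nat
      (R := ((pullback.snd g G.t ≫ G.s).fiber ((pullback.snd g G.t ≫ G.s) p)).presheaf.stalk
        ((pullback.snd g G.t ≫ G.s).asFiber p))
    exact H d V hV g h1 h2 p h3 h4 h5 (hd.trans hdd) ((dim_stabilizer_le G u).trans_eq (h6.symm.trans (hd.trans hdd)))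
  intro d
  induction d using Nat.strong_induction_on with
  | _ d ih =>
    intro V hV g hg hgl p h3 h4 h5 h6 h7
    rcases h7.eq_or_lt with heq | hlt
    · exact ⟨V, hV, g, p, hg, hgl, h3, h4, h5, h6.trans heq.symm⟩
    · obtain ⟨V', hV', g', p', a1, a2, a3, a4, a5, a6⟩ := slice_step G g u p h3 h4 h5 (h6 ▸ hlt)
      haveI := a5.2
      haveI := a1
      haveI := a2
      have hd := L02.CMMor.fibreDimAt_of_closed (pullback.snd g' G.t ≫ G.s) p' (isClosed_slice_point G g' u p' a4)
      obtain ⟨d', hdd⟩ := Groth.L01.exists_dim_eq_nat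
        (R := ((pullback.snd g' G.t ≫ G.s).fiber ((pullback.snd g' G.t ≫ G.s) p')).presheaf.stalk
          ((pullback.snd g' G.t ≫ G.s).asFiber p'))
      have e : d' + 1 = d := by
        rw [hd, hdd, h6] at a6
        exact_mod_cast a6
      refine ih d' (by omega) V' hV' g' a1 a2 p' a3 a4 a5 (hd.trans hdd) ?_
      obtain ⟨z, hz⟩ : ∃ z : WithBot ℕ∞, z = topologicalKrullDim ↥(G.stabilizerToU.fiber u) := ⟨_, rfl⟩
      rw [← hz] at hlt ⊢
      subst e
      cases z with
      | bot => exact bot_le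
      | coe z =>
        have h8 : z < ((d' + 1 : ℕ) : ℕ∞) := WithBot.coe_lt_coe.mp hlt
        rw [Nat.cast_add, Nat.cast_one] at h8
        exact WithBot.coe_le_coe.mpr (ENat.lt_add_one_iff (ENat.coe_ne_top d') |>.mp h8)

/-- The maximal slice. -/
theorem exists_max [LocallyOfFiniteType G.stabilizerToU] (u : G.U)
    [LocallyOfFiniteType (G.U.fromSpecResidueField u)] (hs : MoreMor.IsCMAt G.s (G.e u)) :
    ∃ (U' : Scheme.{u}) (_ : IsAffine U') (g : U' ⟶ G.U) (p : ↑(pullback g G.t)),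
      IsImmersion g ∧ LocallyOfFinitePresentation g ∧ g (pullback.fst g G.t p) = u ∧
      pullback.snd g G.t p = G.e u ∧ (∀ q, MoreMor.IsCMAt (pullback.snd g G.t ≫ G.s) q) ∧
      (∀ q, MoreMor.IsCMAt (pullback.snd (pullback.snd g G.t ≫ G.s) g) q) ∧
      (∀ q, MoreMor.IsCMAt (pullback.fst (pullback.snd g G.t ≫ G.s) g ≫ pullback.fst g G.t) q) ∧
      FlatMor.fibreDimAt (pullback.snd g G.t ≫ G.s) p = topologicalKrullDim ↥(G.stabilizerToU.fiber u) := by
  obtain ⟨V, hV, g, p, hg, hgl, h3, h4, h5, h6⟩ := exists_minimal G u hs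
  obtain ⟨O, hO⟩ := exists_cm_open G g
  obtain ⟨_, ⟨W, hW, rfl⟩, hpW, hWO⟩ := V.isBasis_affineOpens.exists_subset_of_mem_open ((hO p).mpr h5) O.2
  change V.Opens at W
  replace hW : IsAffineOpen W := hW
  let j : pullback (W.ι ≫ g) G.t ⟶ pullback g G.t :=
    pullback.lift (pullback.fst _ _ ≫ W.ι) (pullback.snd _ _) (by rw [Category.assoc, pullback.condition])
  have hj2 : j ≫ pullback.snd g G.t = pullback.snd (W.ι ≫ g) G.t := pullback.lift_snd _ _ _
  have hj1 : j ≫ pullback.fst g G.t = pullback.fst (W.ι ≫ g) G.t ≫ W.ι := pullback.lift_fst _ _ _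
  have hsq : IsPullback (pullback.fst (W.ι ≫ g) G.t) j W.ι (pullback.fst g G.t) :=
    IsPullback.of_bot (by rw [hj2]; exact IsPullback.of_hasPullback (W.ι ≫ g) G.t) hj1.symm (IsPullback.of_hasPullback g G.t)
  haveI : IsOpenImmersion j := MorphismProperty.of_isPullback hsq inferInstance
  have hcomp : j ≫ pullback.snd g G.t ≫ G.s = pullback.snd (W.ι ≫ g) G.t ≫ G.s := by rw [← Category.assoc, hj2]
  obtain ⟨p', hp1, hp2⟩ := Scheme.Pullback.exists_preimage_pullback (f := W.ι ≫ g) (g := G.t) ⟨_, hpW⟩ (G.e u)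
    (h3.trans (congrArg (fun m : G.U ⟶ G.U => m u) G.e_t).symm)
  have hjp : j p' = p := (pullback.snd g G.t).isEmbedding.injective (by
    rw [← Scheme.Hom.comp_apply, hj2, hp2, h4])
  have hcm : ∀ q, MoreMor.IsCMAt (pullback.snd (W.ι ≫ g) G.t ≫ G.s) q := fun q => by
    rw [← hcomp, L02.CMMor.isCMAt_openImmersion_comp]
    refine (hO _).1 ?_
    rw [← Scheme.Hom.comp_apply, hj1]
    exact hWO (pullback.fst (W.ι ≫ g) G.t q).2
  have hs' : ∀ q, MoreMor.IsCMAt (pullback.snd (pullback.snd (W.ι ≫ g) G.t ≫ G.s) (W.ι ≫ g)) q := by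
    intro q
    haveI : ∀ y, IsLocallyNoetherian ((pullback.snd (W.ι ≫ g) G.t ≫ G.s).fiber y) := fun y =>
      haveI : LocallyOfFiniteType ((pullback.snd (W.ι ≫ g) G.t ≫ G.s).fiberToSpecResidueField y) :=
        MorphismProperty.pullback_snd _ (G.U.fromSpecResidueField y) inferInstance
      LocallyOfFiniteType.isLocallyNoetherian ((pullback.snd (W.ι ≫ g) G.t ≫ G.s).fiberToSpecResidueField y)
    exact (L02.CMMor.isCMAt_baseChange_fg (pullback.snd (W.ι ≫ g) G.t ≫ G.s) (W.ι ≫ g) _ _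
      (IsPullback.of_hasPullback _ _) q).1 (hcm _)
  refine ⟨W, hW, W.ι ≫ g, p', inferInstance, inferInstance, ?_, hp2, hcm, hs', fun q => ?_, ?_⟩
  · rw [hp1]; exact h3
  · obtain ⟨σ, hσ⟩ := exists_swap G (W.ι ≫ g)
    rw [← hσ, L02.CMMor.isCMAt_openImmersion_comp]
    exact hs' _
  · rw [← h6, ← hjp]
    exact (Groth.L07.SyntDim.fibreDimAt_congr (pullback.snd g G.t ≫ G.s) (pullback.snd (W.ι ≫ g) G.t ≫ G.s) j
      (𝟙 G.U) (hcomp.trans (Category.comp_id _).symm) p').symm

end L02.Grpd
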