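import Groth.Agent.L02.Grpd.SliceAlg
import Groth.Agent.L02.Grpd.Algebra
import Groth.Agent.L22.SchemeDim
import Mathlib.AlgebraicGeometry.Morphisms.Preimmersion
import Mathlib.AlgebraicGeometry.Morphisms.FiniteType

/-! Components of `s⁻¹(u)` through the identity which map to `u` under the target lie in the stabilizer. -/

set_option autoImplicit false
set_option linter.style.haveILetI false
universe u

open CategoryTheory CategoryTheory.Limits AlgebraicGeometry

namespace L02.Grpd

theorem dim_closure_le_stabilizer {S : Scheme.{u}} (G : Grpd.GroupoidScheme S) [LocallyOfFiniteType G.s]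
    (u : G.U) [LocallyOfFiniteType (G.U.fromSpecResidueField u)] (η a : G.s.fiber u)
    (ha : G.s.fiberι u a = G.e u) (hsp : η ⤳ a) (ht : G.t (G.s.fiberι u η) = u) :
    topologicalKrullDim (closure {η} : Set (G.s.fiber u)) ≤ topologicalKrullDim ↥(G.stabilizerToU.fiber u) := by
  classical
  let F := G.s.fiber u
  let π := G.s.fiberToSpecResidueField u
  let ι := G.s.fiberι u
  let k := G.U.residueField u
  haveI : LocallyOfFiniteType π := inferInstanceAs (LocallyOfFiniteType (pullback.snd _ _))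
  obtain ⟨_, ⟨V, hV, rfl⟩, huV, -⟩ := G.U.isBasis_affineOpens.exists_subset_of_mem_open (Set.mem_univ u) isOpen_univ
  replace hV : IsAffineOpen V := hV
  have hte : G.t (G.e u) = u := congrArg (fun m : G.U ⟶ G.U => m u) G.e_t
  obtain ⟨_, ⟨W, hW, rfl⟩, haW, hWV⟩ := F.isBasis_affineOpens.exists_subset_of_mem_open
    (show a ∈ (ι ≫ G.t) ⁻¹ᵁ V from show G.t (ι a) ∈ V by rw [ha, hte]; exact huV) ((ι ≫ G.t) ⁻¹ᵁ V).2
  replace hW : IsAffineOpen W := hW
  have hηW : η ∈ W := hsp.mem_open W.2 haW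
  let P := (hW.primeIdealOf ⟨η, hηW⟩).asIdeal
  -- the affine domain
  let φ0 : k ⟶ Γ(F, W) := Spec.preimage (hW.fromSpec ≫ π)
  letI : Algebra k Γ(F, W) := φ0.hom.toAlgebra
  haveI : Algebra.FiniteType k Γ(F, W) := by
    refine RingHom.finiteType_algebraMap.mp ((HasRingHomProperty.Spec_iff (P := @LocallyOfFiniteType)).mp ?_)
    show LocallyOfFiniteType (Spec.map φ0)
    rw [Spec.map_preimage]
    infer_instance
  let A := Γ(F, W) ⧸ P
  haveI : Algebra.FiniteType k A :=
    Algebra.FiniteType.of_surjective (Ideal.Quotient.mkₐ k P) Ideal.Quotient.mk_surjective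
  obtain ⟨j, hjdef⟩ : ∃ j : Spec (CommRingCat.of A) ⟶ F,
    j = Spec.map (CommRingCat.ofHom (Ideal.Quotient.mk P)) ≫ hW.fromSpec := ⟨_, rfl⟩
  have hjπ : j ≫ π = Spec.map (CommRingCat.ofHom (algebraMap k A)) := by
    rw [hjdef, Category.assoc, show hW.fromSpec ≫ π = Spec.map φ0 from (Spec.map_preimage _).symm, ← Spec.map_comp]
    rfl
  -- the field of the point as a quotient ring of fractions of an affine neighbourhood
  have hru : Set.range (G.U.fromSpecResidueField u) ⊆ Set.range hV.fromSpec := by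
    rw [Scheme.range_fromSpecResidueField, hV.range_fromSpec, Set.singleton_subset_iff]; exact huV
  let l₀ := IsOpenImmersion.lift hV.fromSpec (G.U.fromSpecResidueField u) hru
  let res₀ : Γ(G.U, V) ⟶ k := Spec.preimage l₀
  have hres₀ : Spec.map res₀ ≫ hV.fromSpec = G.U.fromSpecResidueField u := by
    rw [Spec.map_preimage, IsOpenImmersion.lift_fac]
  letI : Algebra Γ(G.U, V) k := res₀.hom.toAlgebra
  haveI : Algebra.FiniteType Γ(G.U, V) k := by
    refine RingHom.finiteType_algebraMap.mp ((HasRingHomProperty.Spec_iff (P := @LocallyOfFiniteType)).mp ?_)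
    show LocallyOfFiniteType (Spec.map res₀)
    haveI : LocallyOfFiniteType (Spec.map res₀ ≫ hV.fromSpec) := by rw [hres₀]; infer_instance
    exact locallyOfFiniteType_of_comp (Spec.map res₀) hV.fromSpec
  have hfrac : ∀ z : k, ∃ a b, algebraMap Γ(G.U, V) k b ≠ 0 ∧
      z * algebraMap Γ(G.U, V) k b = algebraMap Γ(G.U, V) k a := by
    intro z
    have hpre : IsPreimmersion (Spec.map res₀) := by
      haveI : IsPreimmersion (Spec.map res₀ ≫ hV.fromSpec) := by rw [hres₀]; infer_instance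
      exact IsPreimmersion.of_comp (Spec.map res₀) hV.fromSpec
    obtain ⟨x, r, c, hc, hr, e⟩ :=
      (RingHom.surjectiveOnStalks_iff_forall_ideal.mp ((IsPreimmersion.SpecMap_iff res₀).mp hpre).2) ⊥
        bot_ne_top z
    refine ⟨x, r, fun h => hr (Ideal.mem_bot.mpr h), ?_⟩
    have hc0 : c ≠ 0 := fun h => hc (Ideal.mem_bot.mpr h)
    exact mul_left_cancel₀ hc0 (by rw [← mul_assoc, mul_comm c z, mul_assoc] at *; linear_combination e)
  obtain ⟨g, hg0, hginv⟩ := exists_inverting hfrac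
  -- the two maps to `U`
  have hjV : Set.range (j ≫ ι ≫ G.t) ⊆ Set.range hV.fromSpec := by
    rintro _ ⟨w, rfl⟩
    rw [hV.range_fromSpec]
    exact hWV (show j w ∈ (W : Set F) from hW.range_fromSpec ▸ hjdef ▸ ⟨_, rfl⟩)
  let βt := IsOpenImmersion.lift hV.fromSpec (j ≫ ι ≫ G.t) hjV
  let ψ : Γ(G.U, V) ⟶ CommRingCat.of A := Spec.preimage βt
  have hψ : Spec.map ψ ≫ hV.fromSpec = j ≫ ι ≫ G.t := by rw [Spec.map_preimage, IsOpenImmersion.lift_fac]
  let φ : Γ(G.U, V) ⟶ CommRingCat.of A := res₀ ≫ CommRingCat.ofHom (algebraMap k A)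
  have hφ : Spec.map φ ≫ hV.fromSpec = j ≫ ι ≫ G.s := by
    rw [Spec.map_comp, Category.assoc, hres₀]
    refine (congrArg (· ≫ G.U.fromSpecResidueField u) hjπ.symm).trans ?_
    rw [Category.assoc]
    exact congrArg (j ≫ ·) pullback.condition.symm
  -- the identity point
  let σ : Spec k ⟶ F := pullback.lift (G.U.fromSpecResidueField u ≫ G.e) (𝟙 _)
    (by rw [Category.assoc, G.e_s, Category.comp_id, Category.id_comp])
  have hσι : σ ≫ ι = G.U.fromSpecResidueField u ≫ G.e := pullback.lift_fst _ _ _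
  have hσa : ∀ y, σ y = a := fun y => ι.isEmbedding.injective (by
    rw [ha, ← Scheme.Hom.comp_apply, hσι, Scheme.Hom.comp_apply, Scheme.fromSpecResidueField_apply])
  have hσW : Set.range σ ⊆ Set.range hW.fromSpec := by
    rintro _ ⟨y, rfl⟩
    rw [hσa, hW.range_fromSpec]
    exact haW
  let χ₀ : Γ(F, W) ⟶ k := Spec.preimage (IsOpenImmersion.lift hW.fromSpec σ hσW)
  have hχ₀ : Spec.map χ₀ ≫ hW.fromSpec = σ := by rw [Spec.map_preimage, IsOpenImmersion.lift_fac]
  have hPχ : P ≤ RingHom.ker χ₀.hom := by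
    let y : Spec k := IsLocalRing.closedPoint k
    have h1 : hW.primeIdealOf ⟨η, hηW⟩ ⤳ Spec.map χ₀ y := by
      refine hW.fromSpec.isOpenEmbedding.isInducing.specializes_iff.mp ?_
      rw [hW.fromSpec_primeIdealOf]
      show η ⤳ hW.fromSpec (Spec.map χ₀ y)
      rw [← Scheme.Hom.comp_apply, hχ₀, hσa]
      exact hsp
    have h2 := (PrimeSpectrum.le_iff_specializes _ _).mpr h1
    refine le_trans h2 ?_
    intro r hr
    have h3 : χ₀.hom r ∈ y.asIdeal := hr
    rw [Ideal.eq_bot_of_prime y.asIdeal] at h3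
    exact h3
  let χ : A →+* k := Ideal.Quotient.lift P χ₀.hom fun r hr => hPχ hr
  have hχj : Spec.map (CommRingCat.ofHom χ) ≫ j = σ := by
    rw [hjdef, ← Category.assoc, ← Spec.map_comp, ← hχ₀]
    rfl
  have hχψ : χ.comp ψ.hom = χ.comp φ.hom := by
    have h1 : Spec.map (ψ ≫ CommRingCat.ofHom χ) = Spec.map (φ ≫ CommRingCat.ofHom χ) := by
      rw [← cancel_mono hV.fromSpec, Spec.map_comp, Spec.map_comp, Category.assoc, Category.assoc, hψ, hφ,
        ← Category.assoc (Spec.map _) j, ← Category.assoc (Spec.map _) j, hχj, ← Category.assoc σ, ← Category.assoc σ,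
        hσι, Category.assoc, Category.assoc, G.e_t, G.e_s]
    exact congrArg CommRingCat.Hom.hom (Spec.map_injective h1)
  -- values of `ψ` are zero or divide a power of `ψ g`
  have hker : ∀ r, ψ.hom r = 0 ↔ res₀.hom r = 0 := by
    intro r
    let y : Spec k := IsLocalRing.closedPoint k
    let y₀ : Spec (CommRingCat.of A) := ⟨⊥, Ideal.isPrime_bot⟩
    have hy : Spec.map ψ y₀ = Spec.map res₀ y := by
      refine hV.fromSpec.isOpenEmbedding.injective ?_
      rw [← Scheme.Hom.comp_apply, hψ, ← Scheme.Hom.comp_apply, hres₀, Scheme.fromSpecResidueField_apply]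
      have hj : j y₀ = η := by
        rw [hjdef]
        show hW.fromSpec (PrimeSpectrum.comap (Ideal.Quotient.mk P) ⟨⊥, Ideal.isPrime_bot⟩) = η
        refine Eq.trans (congrArg hW.fromSpec ?_) (hW.fromSpec_primeIdealOf ⟨η, hηW⟩)
        exact PrimeSpectrum.ext ((RingHom.ker_eq_comap_bot (Ideal.Quotient.mk P)).symm.trans Ideal.mk_ker)
      show G.t (ι (j y₀)) = u
      rw [hj]
      exact ht
    have h1 : r ∈ (Spec.map ψ y₀).asIdeal ↔ r ∈ (Spec.map res₀ y).asIdeal := by rw [hy]
    change ψ.hom r ∈ (⊥ : Ideal A) ↔ res₀.hom r ∈ y.asIdeal at h1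
    rwa [Ideal.eq_bot_of_prime y.asIdeal, Ideal.mem_bot, Ideal.mem_bot] at h1
  have hval : ∀ r, ψ.hom r = 0 ∨ ∃ (c : Γ(G.U, V)) (N : ℕ), ψ.hom (r * c) = ψ.hom g ^ N := by
    intro r
    by_cases hr : res₀.hom r = 0
    · exact Or.inl ((hker r).mpr hr)
    · obtain ⟨c, N, hcN⟩ := hginv r hr
      refine Or.inr ⟨c, N, ?_⟩
      rw [← map_pow, ← sub_eq_zero, ← map_sub, hker, map_sub, sub_eq_zero, map_pow]
      exact hcN
  have hunit : IsUnit (χ (ψ.hom g)) := by
    rw [← RingHom.comp_apply, hχψ]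
    refine isUnit_iff_ne_zero.mpr fun h => ?_
    exact hg0 ((map_eq_zero (χ.comp (algebraMap k A))).mp h)
  have heq : ψ = φ := CommRingCat.hom_ext
    (eq_of_point (k := k) ψ.hom φ.hom χ (fun r => ⟨res₀.hom r, rfl⟩) g hunit hval hχψ)
  have hts : (j ≫ ι) ≫ G.t = (j ≫ ι) ≫ G.s := by
    rw [Category.assoc, Category.assoc, ← hψ, ← hφ, heq]
  -- into the stabilizer
  let l : Spec (CommRingCat.of A) ⟶ G.stabilizerToU.fiber u := pullback.lift (stabLift G (j ≫ ι) hts) (j ≫ π) (by
    rw [stabLift_toU, Category.assoc, Category.assoc]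
    exact congrArg (j ≫ ·) pullback.condition)
  have hl : l ≫ G.stabilizerToU.fiberι u ≫ stabι G = j ≫ ι := by
    rw [← Category.assoc, show l ≫ G.stabilizerToU.fiberι u = stabLift G (j ≫ ι) hts from pullback.lift_fst _ _ _,
      stabLift_ι]
  have hemb : Topology.IsEmbedding ⇑l := by
    refine Topology.IsEmbedding.of_comp l.continuous (G.stabilizerToU.fiberι u ≫ stabι G).continuous ?_
    have : IsPreimmersion (j ≫ ι) := by
      haveI : IsClosedImmersion (Spec.map (CommRingCat.ofHom (Ideal.Quotient.mk P))) :=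
        IsClosedImmersion.spec_of_surjective _ Ideal.Quotient.mk_surjective
      rw [hjdef]
      infer_instance
    have h2 : ⇑(G.stabilizerToU.fiberι u ≫ stabι G) ∘ ⇑l = ⇑(j ≫ ι) := by
      funext w
      exact congrArg (fun m : Spec (CommRingCat.of A) ⟶ G.R => m w) hl
    rw [h2]
    exact (j ≫ ι).isEmbedding
  letI : F.Over (Spec (CommRingCat.of k)) := ⟨π⟩
  haveI : LocallyOfFiniteType (F ↘ Spec (CommRingCat.of k)) := ‹LocallyOfFiniteType π›
  obtain ⟨n, hn, htr⟩ := Groth.L22.SchemeDim.exists_dim_closure_eq_trdeg k F η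
  obtain ⟨m, hm, htr'⟩ := Groth.L22.SchemeDim.exists_dim_quotient_eq_trdeg k F hW hηW
  have hmn : m = n := by exact_mod_cast htr'.symm.trans htr
  subst hmn
  rw [hn, ← hm, ← PrimeSpectrum.topologicalKrullDim_eq_ringKrullDim]
  exact hemb.isInducing.topologicalKrullDim_le

end L02.Grpd
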