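import Groth.Agent.L02.Grpd.SliceStab
import Groth.Agent.L02.CMMor.SliceOne
import Groth.Agent.L02.CMMor.Groupoid
import Groth.Agent.L18.FiberStalk
import Mathlib.AlgebraicGeometry.PullbackCarrier

/-! One slicing step of a groupoid at a finite type point. -/

set_option autoImplicit false
set_option linter.style.haveILetI false
universe u

open CategoryTheory CategoryTheory.Limits AlgebraicGeometry IsLocalRing

namespace L02.Grpd

variable {S : Scheme.{u}} (G : Grpd.GroupoidScheme S)

theorem isClosed_identity [LocallyOfFiniteType G.s] (u : G.U) (a : G.s.fiber u) (ha : G.s.fiberι u a = G.e u) :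
    IsClosed ({a} : Set (G.s.fiber u)) := by
  let π := G.s.fiberToSpecResidueField u
  haveI : LocallyOfFiniteType π := inferInstanceAs (LocallyOfFiniteType (pullback.snd _ _))
  haveI : JacobsonSpace (G.s.fiber u) := LocallyOfFiniteType.jacobsonSpace π
  let σ : Spec (G.U.residueField u) ⟶ G.s.fiber u := pullback.lift (G.U.fromSpecResidueField u ≫ G.e) (𝟙 _)
    (by rw [Category.assoc, G.e_s, Category.comp_id, Category.id_comp])
  haveI : LocallyOfFiniteType (σ ≫ π) := by
    rw [show σ ≫ π = 𝟙 _ from pullback.lift_snd _ _ _]; infer_instance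
  haveI : LocallyOfFiniteType σ := locallyOfFiniteType_of_comp σ π
  have hσ : σ (closedPoint (G.U.residueField u)) = a := (G.s.fiberι u).isEmbedding.injective (by
    rw [ha, ← Scheme.Hom.comp_apply, show σ ≫ G.s.fiberι u = _ from pullback.lift_fst _ _ _,
      Scheme.Hom.comp_apply, Scheme.fromSpecResidueField_apply])
  have := σ.closePoints_subset_preimage_closedPoints (IsLocalRing.isClosed_singleton_closedPoint _)
  rwa [Set.mem_preimage, hσ] at this

variable {U' : Scheme.{u}} (g : U' ⟶ G.U)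

theorem isClosed_slice_point [LocallyOfFiniteType G.s] [IsImmersion g] (u : G.U) (p : ↑(pullback g G.t))
    (hp2 : pullback.snd g G.t p = G.e u) :
    IsClosed ({(pullback.snd g G.t ≫ G.s).asFiber p} :
      Set ↑((pullback.snd g G.t ≫ G.s).fiber ((pullback.snd g G.t ≫ G.s) p))) := by
  have hse : G.s (G.e u) = u := congrArg (fun m : G.U ⟶ G.U => m u) G.e_s
  rw [L02.CMMor.isClosed_asFiber_iff]
  intro y hy hpy
  haveI : IsImmersion (pullback.snd g G.t) := MorphismProperty.pullback_snd g G.t ‹_›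
  refine (pullback.snd g G.t).isEmbedding.injective ?_
  have h1 : G.e u ⤳ pullback.snd g G.t y := hp2 ▸ hpy.map (pullback.snd g G.t).continuous
  have hy' : G.s (pullback.snd g G.t y) = u :=
    hy.trans ((congrArg G.s hp2).trans hse)
  obtain ⟨a, ha⟩ := (G.s.range_fiberι u).ge (show G.e u ∈ G.s ⁻¹' {u} from hse)
  obtain ⟨w, hw⟩ := (G.s.range_fiberι u).ge (show pullback.snd g G.t y ∈ G.s ⁻¹' {u} from hy')
  rw [← ha, ← hw] at h1
  have h2 := ((G.s.fiberι u).isEmbedding.isInducing.specializes_iff.mp h1).mem_closure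
  rw [(isClosed_identity G u a ha).closure_eq] at h2
  rw [← hw, h2, ha, hp2]

/-- Some function vanishing at the point is regular on the fibre, if the fibre is bigger than the stabilizer. -/
theorem exists_regular [LocallyOfFinitePresentation G.s] [IsAffine U'] [IsImmersion g]
    [LocallyOfFinitePresentation g] [LocallyOfFinitePresentation G.t]
    (u : G.U) [LocallyOfFiniteType (G.U.fromSpecResidueField u)] (p : ↑(pullback g G.t))
    (hp1 : g (pullback.fst g G.t p) = u) (hp2 : pullback.snd g G.t p = G.e u)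
    (hcm : MoreMor.IsCMAt (pullback.snd g G.t ≫ G.s) p)
    (hd : topologicalKrullDim ↥(G.stabilizerToU.fiber u) < FlatMor.fibreDimAt (pullback.snd g G.t ≫ G.s) p) :
    ∃ b : Γ(U', ⊤), b ∈ (U'.toSpecΓ (pullback.fst g G.t p)).asIdeal ∧
      (pullback g G.t).presheaf.germ ⊤ p trivial ((pullback.fst g G.t).appTop b) ∈ maximalIdeal _ ∧
      IsSMulRegular ((pullback g G.t).presheaf.stalk p ⧸ (maximalIdeal (G.U.presheaf.stalk
          ((pullback.snd g G.t ≫ G.s) p))).map ((pullback.snd g G.t ≫ G.s).stalkMap p).hom)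
        (Ideal.Quotient.mk ((maximalIdeal (G.U.presheaf.stalk
          ((pullback.snd g G.t ≫ G.s) p))).map ((pullback.snd g G.t ≫ G.s).stalkMap p).hom)
          ((pullback g G.t).presheaf.germ ⊤ p trivial ((pullback.fst g G.t).appTop b))) := by
  classical
  haveI : IsImmersion (pullback.snd g G.t) := MorphismProperty.pullback_snd g G.t ‹_›
  let h := pullback.snd g G.t ≫ G.s
  have hse : G.s (G.e u) = u := congrArg (fun m : G.U ⟶ G.U => m u) G.e_s
  have hcl := isClosed_slice_point G g u p hp2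
  have hu : u = h p := ((congrArg G.s hp2).trans hse).symm
  subst hu
  let Fh := h.fiber (h p)
  let a₀ := h.asFiber p
  let F := G.s.fiber (h p)
  let m : Fh ⟶ F := pullback.lift (h.fiberι (h p) ≫ pullback.snd g G.t) (h.fiberToSpecResidueField (h p))
    (by rw [Category.assoc]; exact pullback.condition)
  have hm : m ≫ G.s.fiberι (h p) = h.fiberι (h p) ≫ pullback.snd g G.t := pullback.lift_fst _ _ _
  haveI : IsPreimmersion m := by
    haveI : IsPreimmersion (m ≫ G.s.fiberι (h p)) := by rw [hm]; infer_instance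
    exact IsPreimmersion.of_comp m (G.s.fiberι (h p))
  have hma : G.s.fiberι (h p) (m a₀) = G.e (h p) := by
    rw [← Scheme.Hom.comp_apply, hm, Scheme.Hom.comp_apply, h.fiberι_asFiber]
    exact hp2
  let Fs := Fh.presheaf.stalk a₀
  haveI hCM : LocCoh.IsCohenMacaulayLocalRing Fs := hcm.2
  let mu := h.fiberι (h p) ≫ pullback.fst g G.t
  let θ : Γ(U', ⊤) →+* Fs := (mu.appTop ≫ Fh.presheaf.germ ⊤ a₀ trivial).hom
  have hθ : ∀ P : PrimeSpectrum Fs, PrimeSpectrum.comap θ P = U'.toSpecΓ (mu (Fh.fromSpecStalk a₀ P)) := by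
    intro P
    have h1 : Spec.map (mu.appTop ≫ Fh.presheaf.germ ⊤ a₀ trivial) = Fh.fromSpecStalk a₀ ≫ mu ≫ U'.toSpecΓ := by
      rw [Scheme.toSpecΓ_naturality, ← Category.assoc, Scheme.fromSpecStalk_toSpecΓ, ← Spec.map_comp]
    exact congrArg (fun q : Spec (Fh.presheaf.stalk a₀) ⟶ Spec Γ(U', ⊤) => q P) h1
  have hu' : U'.toSpecΓ (pullback.fst g G.t p) = PrimeSpectrum.comap θ (closedPoint Fs) := by
    rw [hθ, Scheme.fromSpecStalk_closedPoint, Scheme.Hom.comp_apply, h.fiberι_asFiber]
  have hdim : FlatMor.fibreDimAt h p = ringKrullDim Fs := L02.CMMor.fibreDimAt_of_closed h p hcl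
  -- associated primes of the fibre do not lie over the point
  have key : ∀ P ∈ associatedPrimes Fs Fs, ¬ (U'.toSpecΓ (pullback.fst g G.t p)).asIdeal ≤ P.comap θ := by
    intro P hP hle
    haveI : P.IsPrime := IsAssociatedPrime.isPrime hP
    have hfull : ringKrullDim (Fs ⧸ P) = ringKrullDim Fs := by
      rw [Groth.L04.ringKrullDim_quotient_eq_supportDim_of_isCM hCM.supportDim_eq_depth hP,
        Module.supportDim_self_eq_ringKrullDim]
    let q := Fh.fromSpecStalk a₀ ⟨P, inferInstance⟩
    have hq : mu q = pullback.fst g G.t p := by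
      refine U'.isoSpec.hom.homeomorph.injective ?_
      show U'.toSpecΓ (mu q) = U'.toSpecΓ (pullback.fst g G.t p)
      rw [← hθ]
      refine PrimeSpectrum.ext (le_antisymm ?_ hle)
      rw [hu']
      exact Ideal.comap_mono (IsLocalRing.le_maximalIdeal (Ideal.IsPrime.ne_top ‹P.IsPrime›))
    have hqa : q ⤳ a₀ := by
      have : q ∈ Set.range (Fh.fromSpecStalk a₀) := ⟨_, rfl⟩
      rwa [Scheme.range_fromSpecStalk] at this
    have htq : G.t (G.s.fiberι (h p) (m q)) = h p := by
      rw [← Scheme.Hom.comp_apply m, hm, Scheme.Hom.comp_apply, ← Scheme.Hom.comp_apply _ G.t,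
        ← pullback.condition, Scheme.Hom.comp_apply]
      exact (congrArg g hq).trans hp1
    have h1 := dim_closure_le_stabilizer G (h p) (m q) (m a₀) hma (hqa.map m.continuous) htq
    have h2 : ringKrullDim (Fs ⧸ P) ≤ topologicalKrullDim (closure {m q} : Set F) := by
      let w : Spec (CommRingCat.of (Fs ⧸ P)) → F := fun z =>
        m (Fh.fromSpecStalk a₀ (PrimeSpectrum.comap (Ideal.Quotient.mk P) z))
      have hw : Topology.IsEmbedding w := m.isEmbedding.comp ((Fh.fromSpecStalk a₀).isEmbedding.comp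
        (PrimeSpectrum.isClosedEmbedding_comap_of_surjective (R := Fs) (Fs ⧸ P) (Ideal.Quotient.mk P)
          Ideal.Quotient.mk_surjective).isEmbedding)
      rw [← PrimeSpectrum.topologicalKrullDim_eq_ringKrullDim]
      refine (Groth.L22.SchemeDim.topologicalKrullDim_eq_of_isEmbedding hw rfl).symm.trans_le
        (Groth.L22.SchemeDim.topologicalKrullDim_mono ?_)
      rintro _ ⟨z, rfl⟩
      refine Specializes.mem_closure (Specializes.map (Specializes.map ?_ (Fh.fromSpecStalk a₀).continuous) m.continuous)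
      refine (PrimeSpectrum.le_iff_specializes _ _).mp ?_
      show P ≤ Ideal.comap (Ideal.Quotient.mk P) z.asIdeal
      exact fun r hr => Ideal.mem_comap.mpr (by rw [Ideal.Quotient.eq_zero_iff_mem.mpr hr]; exact zero_mem _)
    rw [hfull, ← hdim] at h2
    exact absurd (h2.trans h1) hd.not_ge
  have hfin := associatedPrimes.finite Fs Fs
  obtain ⟨b, hb, hbP⟩ : ∃ b ∈ (U'.toSpecΓ (pullback.fst g G.t p)).asIdeal,
      ∀ P ∈ associatedPrimes Fs Fs, θ b ∉ P := by
    by_contra! hall
    have hsub : ((U'.toSpecΓ (pullback.fst g G.t p)).asIdeal : Set Γ(U', ⊤)) ⊆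
        ⋃ P ∈ associatedPrimes Fs Fs, (P.comap θ : Set Γ(U', ⊤)) := fun b hb => by
      obtain ⟨P, hP, hbP⟩ := hall b hb
      exact Set.mem_biUnion hP hbP
    obtain ⟨P, hP, hle⟩ := (Ideal.subset_union_prime_finite hfin (⊥ : Ideal Fs) ⊥
      (fun P hP _ _ => (IsAssociatedPrime.isPrime hP).comap θ)).mp hsub
    exact key P hP hle
  have hreg : IsSMulRegular Fs (θ b) := by
    by_contra hne
    have : θ b ∈ (⋃ P ∈ associatedPrimes Fs Fs, (P : Set Fs)) := by
      rw [biUnion_associatedPrimes_eq_compl_regular]; exact hne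
    obtain ⟨P, hP, h⟩ := Set.mem_iUnion₂.mp this
    exact hbP P hP h
  have hmax : θ b ∈ maximalIdeal Fs := by
    rw [hu'] at hb
    exact hb
  refine ⟨b, hb, ?_⟩
  let B := (pullback.fst g G.t).appTop b
  suffices H : ∀ (y : ↑(pullback g G.t)) (a : h.fiber (h p)) (hy : h.fiberι (h p) a = y),
      IsSMulRegular ((h.fiber (h p)).presheaf.stalk a) ((h.fiber (h p)).presheaf.germ ⊤ a trivial
        ((h.fiberι (h p)).appTop B)) →
      (h.fiber (h p)).presheaf.germ ⊤ a trivial ((h.fiberι (h p)).appTop B) ∈ maximalIdeal _ →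
      (pullback g G.t).presheaf.germ ⊤ y trivial B ∈ maximalIdeal _ ∧
      IsSMulRegular ((pullback g G.t).presheaf.stalk y ⧸ (maximalIdeal (G.U.presheaf.stalk (h y))).map (h.stalkMap y).hom)
        (Ideal.Quotient.mk ((maximalIdeal (G.U.presheaf.stalk (h y))).map (h.stalkMap y).hom)
          ((pullback g G.t).presheaf.germ ⊤ y trivial B)) by
    refine H p a₀ (h.fiberι_asFiber p) ?_ ?_ <;>
    · have hθb : θ b = Fh.presheaf.germ ⊤ a₀ trivial ((h.fiberι (h p)).appTop B) := by
        show (mu.appTop ≫ Fh.presheaf.germ ⊤ a₀ trivial) b = _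
        rw [CommRingCat.comp_apply, Scheme.Hom.comp_appTop, CommRingCat.comp_apply]
      rw [← hθb]
      assumption
  rintro y a rfl hr hmx
  obtain ⟨h1, h2⟩ := Groth.L18.stalkMap_fiberι h (h p) a
  have hnat : ((h.fiberι (h p)).stalkMap a).hom ((pullback g G.t).presheaf.germ ⊤ (h.fiberι (h p) a) trivial B) =
      (h.fiber (h p)).presheaf.germ ⊤ a trivial ((h.fiberι (h p)).appTop B) :=
    Scheme.Hom.germ_stalkMap_apply (h.fiberι (h p)) ⊤ a trivial B
  refine ⟨?_, ?_⟩
  · rw [← hnat, IsLocalRing.mem_maximalIdeal] at hmx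
    rw [IsLocalRing.mem_maximalIdeal]
    exact fun hu => hmx (hu.map _)
  · let e := (Ideal.quotEquivOfEq h2.symm).trans (RingHom.quotientKerEquivOfSurjective h1)
    rw [← hnat] at hr
    intro z w hzw
    refine e.injective (hr ?_)
    have := congrArg e hzw
    simp only [smul_eq_mul, map_mul] at this
    exact this

/-- One slicing step. -/
theorem slice_step [LocallyOfFinitePresentation G.s] [IsAffine U'] [IsImmersion g]
    [LocallyOfFinitePresentation g] [LocallyOfFinitePresentation G.t]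
    (u : G.U) [LocallyOfFiniteType (G.U.fromSpecResidueField u)] (p : ↑(pullback g G.t))
    (hp1 : g (pullback.fst g G.t p) = u) (hp2 : pullback.snd g G.t p = G.e u)
    (hcm : MoreMor.IsCMAt (pullback.snd g G.t ≫ G.s) p)
    (hd : topologicalKrullDim ↥(G.stabilizerToU.fiber u) < FlatMor.fibreDimAt (pullback.snd g G.t ≫ G.s) p) :
    ∃ (U'' : Scheme.{u}) (_ : IsAffine U'') (g' : U'' ⟶ G.U) (p' : ↑(pullback g' G.t)),
      IsImmersion g' ∧ LocallyOfFinitePresentation g' ∧ g' (pullback.fst g' G.t p') = u ∧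
      pullback.snd g' G.t p' = G.e u ∧ MoreMor.IsCMAt (pullback.snd g' G.t ≫ G.s) p' ∧
      FlatMor.fibreDimAt (pullback.snd g' G.t ≫ G.s) p' + 1 = FlatMor.fibreDimAt (pullback.snd g G.t ≫ G.s) p := by
  classical
  obtain ⟨b, hb, hbm, hreg⟩ := exists_regular G g u p hp1 hp2 hcm hd
  let I : Ideal Γ(U', ⊤) := Ideal.span {b}
  let c : Spec (CommRingCat.of (Γ(U', ⊤) ⧸ I)) ⟶ U' :=
    Spec.map (CommRingCat.ofHom (Ideal.Quotient.mk I)) ≫ U'.isoSpec.inv
  haveI : IsClosedImmersion (Spec.map (CommRingCat.ofHom (Ideal.Quotient.mk I))) :=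
    IsClosedImmersion.spec_of_surjective _ Ideal.Quotient.mk_surjective
  haveI : LocallyOfFinitePresentation (Spec.map (CommRingCat.ofHom (Ideal.Quotient.mk I))) :=
    HasRingHomProperty.Spec_iff.mpr (RingHom.FinitePresentation.of_surjective _ Ideal.Quotient.mk_surjective
      (by rw [CommRingCat.hom_ofHom, Ideal.mk_ker]; exact Submodule.fg_span_singleton b))
  haveI : IsClosedImmersion c := inferInstanceAs (IsClosedImmersion (_ ≫ _))
  haveI : LocallyOfFinitePresentation c := inferInstanceAs (LocallyOfFinitePresentation (_ ≫ _))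
  let P' := pullback (c ≫ g) G.t
  let i : P' ⟶ pullback g G.t := pullback.lift (pullback.fst (c ≫ g) G.t ≫ c) (pullback.snd (c ≫ g) G.t)
    (by rw [Category.assoc, pullback.condition])
  have hi2 : i ≫ pullback.snd g G.t = pullback.snd (c ≫ g) G.t := pullback.lift_snd _ _ _
  have hi1 : i ≫ pullback.fst g G.t = pullback.fst (c ≫ g) G.t ≫ c := pullback.lift_fst _ _ _
  have hsq : IsPullback (pullback.fst (c ≫ g) G.t) i c (pullback.fst g G.t) :=
    IsPullback.of_bot (by rw [hi2]; exact IsPullback.of_hasPullback (c ≫ g) G.t) hi1.symm (IsPullback.of_hasPullback g G.t)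
  haveI : IsClosedImmersion i := MorphismProperty.of_isPullback hsq inferInstance
  -- the point
  have hmem : U'.toSpecΓ (pullback.fst g G.t p) ∈ Set.range (Spec.map (CommRingCat.ofHom (Ideal.Quotient.mk I))) := by
    show _ ∈ Set.range (PrimeSpectrum.comap (Ideal.Quotient.mk I))
    rw [range_comap_of_surjective _ _ Ideal.Quotient.mk_surjective, Ideal.mk_ker, PrimeSpectrum.mem_zeroLocus]
    exact Ideal.span_le.mpr (Set.singleton_subset_iff.mpr hb)
  obtain ⟨u'', hu''⟩ := hmem
  have hcu : c u'' = pullback.fst g G.t p := by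
    rw [Scheme.Hom.comp_apply, hu'', ← Scheme.isoSpec_hom, ← Scheme.Hom.comp_apply, Iso.hom_inv_id]
    rfl
  obtain ⟨p', hp'1, hp'2⟩ := Scheme.Pullback.exists_preimage_pullback (f := c ≫ g) (g := G.t) u'' (pullback.snd g G.t p) (by
    rw [Scheme.Hom.comp_apply, hcu, ← Scheme.Hom.comp_apply, pullback.condition, Scheme.Hom.comp_apply])
  haveI : IsImmersion (pullback.snd g G.t) := MorphismProperty.pullback_snd g G.t ‹_›
  have hip : i p' = p := (pullback.snd g G.t).isEmbedding.injective (by
    rw [← Scheme.Hom.comp_apply, hi2, hp'2])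
  subst hip
  let L := (pullback g G.t).presheaf.stalk (i p')
  let A : L := (pullback g G.t).presheaf.germ ⊤ (i p') trivial ((pullback.fst g G.t).appTop b)
  have hkill : (i.stalkMap p').hom A = 0 := by
    show (i.stalkMap p') ((pullback g G.t).presheaf.germ ⊤ (i p') trivial ((pullback.fst g G.t).appTop b)) = 0
    rw [Scheme.Hom.germ_stalkMap_apply]
    show P'.presheaf.germ ⊤ p' trivial (i.appTop ((pullback.fst g G.t).appTop b)) = 0
    rw [← CommRingCat.comp_apply ((pullback.fst g G.t).appTop) i.appTop, ← Scheme.Hom.comp_appTop, hi1,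
      Scheme.Hom.comp_appTop, CommRingCat.comp_apply]
    have hc0 : c.appTop b = 0 := by
      have h1 : Spec.map (c.appTop ≫ (Scheme.ΓSpecIso _).hom) = Spec.map (CommRingCat.ofHom (Ideal.Quotient.mk I)) := by
        rw [Spec.map_comp, SpecMap_ΓSpecIso_hom, ← Scheme.toSpecΓ_naturality, ← Scheme.isoSpec_hom]
        simp only [c, Category.assoc, Iso.inv_hom_id, Category.comp_id]
      have h2 : (Scheme.ΓSpecIso _).hom (c.appTop b) = 0 :=
        (ConcreteCategory.congr_hom (Spec.map_injective h1) b).trans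
          (Ideal.Quotient.eq_zero_iff_mem.mpr (Ideal.mem_span_singleton_self b))
      refine (Scheme.ΓSpecIso _).commRingCatIsoToRingEquiv.injective ?_
      rw [map_zero]
      exact h2
    rw [hc0, map_zero, map_zero]
  have hker : RingHom.ker (i.stalkMap p').hom = Ideal.span {A} := by
    refine le_antisymm ?_ ((Ideal.span_singleton_le_iff_mem _).mpr hkill)
    let J := Ideal.span {A}
    haveI : Nontrivial (L ⧸ J) := Ideal.Quotient.nontrivial_iff.mpr fun h =>
      (maximalIdeal.isMaximal L).ne_top (top_le_iff.mp (h ▸ (Ideal.span_singleton_le_iff_mem _).mpr hbm))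
    haveI : IsLocalRing (L ⧸ J) := IsLocalRing.of_surjective' _ Ideal.Quotient.mk_surjective
    haveI : IsLocalHom (Ideal.Quotient.mk J) := IsLocalHom.of_surjective _ Ideal.Quotient.mk_surjective
    let ν : Spec (CommRingCat.of (L ⧸ J)) ⟶ pullback g G.t :=
      Spec.map (CommRingCat.ofHom (Ideal.Quotient.mk J)) ≫ (pullback g G.t).fromSpecStalk (i p')
    let θL : Γ(U', ⊤) →+* L := ((pullback.fst g G.t).appTop ≫ (pullback g G.t).presheaf.germ ⊤ (i p') trivial).hom
    have hI : I ≤ J.comap θL := Ideal.span_le.mpr (Set.singleton_subset_iff.mpr (Ideal.mem_span_singleton_self A))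
    let w : Spec (CommRingCat.of (L ⧸ J)) ⟶ Spec (CommRingCat.of (Γ(U', ⊤) ⧸ I)) :=
      Spec.map (CommRingCat.ofHom (Ideal.quotientMap J θL hI))
    have hw : w ≫ c = ν ≫ pullback.fst g G.t := by
      rw [← cancel_mono U'.isoSpec.hom]
      simp only [Category.assoc, c, w, ν, Iso.inv_hom_id, Category.comp_id]
      rw [Scheme.isoSpec_hom, Scheme.toSpecΓ_naturality, ← Category.assoc ((pullback g G.t).fromSpecStalk _),
        Scheme.fromSpecStalk_toSpecΓ, ← Spec.map_comp, ← Spec.map_comp, ← Spec.map_comp]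
      congr 1
    let μ := hsq.lift w ν hw
    have hμ : μ ≫ i = ν := hsq.lift_snd _ _ _
    have hμp : μ (closedPoint (L ⧸ J)) = p' := i.isEmbedding.injective (by
      rw [← Scheme.Hom.comp_apply, hμ]
      show (pullback g G.t).fromSpecStalk (i p') (PrimeSpectrum.comap (Ideal.Quotient.mk J) (closedPoint _)) = i p'
      rw [IsLocalRing.comap_closedPoint, Scheme.fromSpecStalk_closedPoint])
    obtain ⟨β, hβ⟩ : ∃ β : P'.presheaf.stalk p' ⟶ CommRingCat.of (L ⧸ J), Spec.map β ≫ P'.fromSpecStalk p' = μ := by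
      refine hμp ▸ ⟨_, Scheme.Spec_stalkClosedPointTo_fromSpecStalk μ⟩
    have h3 : Spec.map (i.stalkMap p' ≫ β) = Spec.map (CommRingCat.ofHom (Ideal.Quotient.mk J)) := by
      rw [← cancel_mono ((pullback g G.t).fromSpecStalk (i p')), Spec.map_comp, Category.assoc,
        Scheme.SpecMap_stalkMap_fromSpecStalk, ← Category.assoc, hβ, hμ]
    intro z hz
    have h4 := congrArg (fun m => m.hom z) (Spec.map_injective h3)
    simp only [CommRingCat.hom_comp, RingHom.comp_apply, RingHom.mem_ker.mp hz, map_zero,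
      CommRingCat.hom_ofHom] at h4
    exact Ideal.Quotient.eq_zero_iff_mem.mp h4.symm
  haveI : LocCoh.IsCohenMacaulayLocalRing (L ⧸ (maximalIdeal (G.U.presheaf.stalk
      ((pullback.snd g G.t ≫ G.s) (i p')))).map ((pullback.snd g G.t ≫ G.s).stalkMap (i p')).hom) :=
    ((L02.CMMor.grpd_isCMAt_iff _ _).2 hcm).2
  haveI : LocallyOfFiniteType (i ≫ pullback.snd g G.t ≫ G.s) := by
    rw [← Category.assoc, hi2]; infer_instance
  obtain ⟨hC, hD, -⟩ := L02.CMMor.cm_slice (pullback.snd g G.t ≫ G.s) i i.isEmbedding.injective p' A hbm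
    (i.stalkMap_surjective p') hker hcm.1 hreg (isClosed_slice_point G g u (i p') hp2)
  rw [show i ≫ pullback.snd g G.t ≫ G.s = pullback.snd (c ≫ g) G.t ≫ G.s by rw [← Category.assoc, hi2]] at hC hD
  refine ⟨Spec (CommRingCat.of (Γ(U', ⊤) ⧸ I)), inferInstance, c ≫ g, p', inferInstance, inferInstance, ?_,
    hp'2.trans hp2, hC, hD⟩
  rw [hp'1, Scheme.Hom.comp_apply, hcu]
  exact hp1

end L02.Grpd
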