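import Groth.Agent.L02.Grpd.OverField

/-! Translations in a groupoid over a field. -/

set_option autoImplicit false
set_option linter.style.haveILetI false
universe u

open CategoryTheory CategoryTheory.Limits AlgebraicGeometry

namespace L02.Grpd

variable {S : Scheme.{u}} (G : Grpd.GroupoidScheme S) {k : Type u} [Field k] (eU : G.U ≅ Spec (CommRingCat.of k))

include eU in
theorem isOpenMap_comp : IsOpenMap ⇑G.c := by
  haveI : Subsingleton G.U := eU.hom.homeomorph.toEquiv.subsingleton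
  haveI : Nonempty G.U := ⟨eU.inv (IsLocalRing.closedPoint k)⟩
  haveI : IsIntegral G.U := isIntegral_of_isOpenImmersion eU.hom
  haveI : UniversallyOpen G.c := MorphismProperty.of_isPullback (isPullback_c_snd G).flip
    (inferInstance : UniversallyOpen G.s)
  exact G.c.isOpenMap

/-- Left translation by a section. -/
theorem exists_translation (σ : G.U ⟶ G.R) (hs : σ ≫ G.s = 𝟙 G.U) [IsIso (σ ≫ G.t)] :
    ∃ φ : G.R ≅ G.R, G.e ≫ φ.hom = σ := by
  let τ := σ ≫ G.t
  have hγ : (G.t ≫ σ) ≫ G.s = 𝟙 G.R ≫ G.t := by rw [Category.assoc, hs, Category.comp_id, Category.id_comp]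
  let φ := mul G (G.t ≫ σ) (𝟙 G.R) hγ
  have hφt : φ ≫ G.t = G.t ≫ τ := (mul_t G _ _ hγ).trans (Category.assoc _ _ _)
  let δ := G.t ≫ inv τ ≫ σ
  have hδ : (δ ≫ G.i) ≫ G.s = 𝟙 G.R ≫ G.t := by
    rw [inv_s, Category.id_comp]
    simp only [δ, Category.assoc]
    rw [show σ ≫ G.t = τ from rfl, IsIso.inv_hom_id, Category.comp_id]
  let ψ := mul G (δ ≫ G.i) (𝟙 G.R) hδ
  have hψt : ψ ≫ G.t = G.t ≫ inv τ := by
    refine (mul_t G _ _ hδ).trans ?_
    rw [inv_t]
    simp only [δ, Category.assoc, hs, Category.comp_id]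
  have h1 : φ ≫ ψ = 𝟙 G.R := by
    show φ ≫ mul G _ _ hδ = _
    rw [comp_mul]
    refine (mul_congr G (α' := (G.t ≫ σ) ≫ G.i) ?_ (Category.comp_id φ) _ ((inv_s G _).trans ((Category.assoc _ _ _).trans hφt.symm))).trans
      (cancel_left G (G.t ≫ σ) (𝟙 G.R) hγ)
    simp only [δ, ← Category.assoc, hφt]
    simp only [Category.assoc, IsIso.hom_inv_id_assoc]
  have h2 : ψ ≫ φ = 𝟙 G.R := by
    show ψ ≫ mul G _ _ hγ = _
    rw [comp_mul]
    have hδt : δ ≫ G.t = 𝟙 G.R ≫ G.t := by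
      simp only [δ, Category.assoc, Category.id_comp]
      rw [show σ ≫ G.t = τ from rfl, IsIso.inv_hom_id, Category.comp_id]
    refine (mul_congr G (α' := δ) ?_ (Category.comp_id ψ) _ ?_).trans (cancel_left' G δ (𝟙 G.R) hδt)
    · simp only [← Category.assoc, hψt]
      simp only [δ, Category.assoc]
    · rw [hψt]
      simp only [δ, Category.assoc, hs, Category.comp_id]
  refine ⟨⟨φ, ψ, h1, h2⟩, ?_⟩
  show G.e ≫ mul G _ _ hγ = σ
  rw [comp_mul]
  refine (mul_congr G (α' := σ) (β' := σ ≫ G.s ≫ G.e) ?_ ?_ _ (by simp [G.e_t, hs])).trans (G.comp_e σ)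
  · rw [← Category.assoc, G.e_t, Category.id_comp]
  · rw [Category.comp_id, ← Category.assoc, hs, Category.id_comp]

include eU in
theorem exists_auto_moving_identity (r : G.R) (hs : IsIso (G.s.residueFieldMap r)) (ht : IsIso (G.t.residueFieldMap r)) :
    ∃ φ : G.R ≅ G.R, φ.hom (G.e (eU.inv (IsLocalRing.closedPoint k))) = r := by
  haveI := hs; haveI := ht
  haveI : Subsingleton G.U := eU.hom.homeomorph.toEquiv.subsingleton
  haveI := isIso_fromSpecResidueField eU (G.s r)
  haveI := isIso_fromSpecResidueField eU (G.t r)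
  let σ : G.U ⟶ G.R := inv (G.U.fromSpecResidueField (G.s r)) ≫ Spec.map (inv (G.s.residueFieldMap r)) ≫
    G.R.fromSpecResidueField r
  have hσs : σ ≫ G.s = 𝟙 G.U := by
    simp only [σ, Category.assoc]
    rw [← Scheme.Hom.SpecMap_residueFieldMap_fromSpecResidueField G.s r, ← Category.assoc (Spec.map _),
      ← Spec.map_comp, IsIso.hom_inv_id, Spec.map_id, Category.id_comp, IsIso.inv_hom_id]
  haveI : IsIso (σ ≫ G.t) := by
    simp only [σ, Category.assoc]
    rw [← Scheme.Hom.SpecMap_residueFieldMap_fromSpecResidueField G.t r]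
    infer_instance
  obtain ⟨φ, hφ⟩ := exists_translation G σ hσs
  refine ⟨φ, ?_⟩
  rw [← Scheme.Hom.comp_apply, hφ]
  simp only [σ, Scheme.Hom.comp_apply, Scheme.fromSpecResidueField_apply]

include eU in
theorem isOpen_image_translate (W : G.R.Opens) (Z : Scheme.{u}) (a : Z ⟶ G.R) (m : pullback (a ≫ G.s) (W.ι ≫ G.t) ⟶ pullback G.s G.t)
    (hm₁ : m ≫ pullback.fst G.s G.t = pullback.fst (a ≫ G.s) (W.ι ≫ G.t) ≫ a)
    (hm₂ : m ≫ pullback.snd G.s G.t = pullback.snd (a ≫ G.s) (W.ι ≫ G.t) ≫ W.ι) :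
    IsOpen (Set.range ⇑(m ≫ G.c)) := by
  haveI : Subsingleton G.U := eU.hom.homeomorph.toEquiv.subsingleton
  haveI : Nonempty G.U := ⟨eU.inv (IsLocalRing.closedPoint k)⟩
  haveI : IsIntegral G.U := isIntegral_of_isOpenImmersion eU.hom
  let P := pullback (a ≫ G.s) G.t
  let Q := pullback (a ≫ G.t) G.t
  have hP : (pullback.fst (a ≫ G.s) G.t ≫ a) ≫ G.s = pullback.snd (a ≫ G.s) G.t ≫ G.t := by
    rw [Category.assoc, pullback.condition]
  have hQ : (pullback.fst (a ≫ G.t) G.t ≫ a) ≫ G.t = pullback.snd (a ≫ G.t) G.t ≫ G.t := by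
    rw [Category.assoc, pullback.condition]
  let f : P ⟶ Q := pullback.lift (pullback.fst _ _) (mul G (pullback.fst _ _ ≫ a) (pullback.snd _ _) hP)
    (by rw [mul_t, Category.assoc])
  let f' : Q ⟶ P := pullback.lift (pullback.fst _ _)
    (mul G ((pullback.fst _ _ ≫ a) ≫ G.i) (pullback.snd _ _) ((inv_s G _).trans hQ))
    (by rw [mul_t, inv_t, Category.assoc])
  have hf1 : f ≫ pullback.fst (a ≫ G.t) G.t = pullback.fst (a ≫ G.s) G.t := pullback.lift_fst _ _ _
  have hf2 : f ≫ pullback.snd (a ≫ G.t) G.t = mul G _ _ hP := pullback.lift_snd _ _ _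
  have hf'1 : f' ≫ pullback.fst (a ≫ G.s) G.t = pullback.fst (a ≫ G.t) G.t := pullback.lift_fst _ _ _
  have hf'2 : f' ≫ pullback.snd (a ≫ G.s) G.t = mul G _ _ ((inv_s G _).trans hQ) := pullback.lift_snd _ _ _
  haveI : IsIso f := by
    refine ⟨f', ?_, ?_⟩
    · apply pullback.hom_ext
      · rw [Category.assoc, hf'1, hf1, Category.id_comp]
      · rw [Category.assoc, hf'2, comp_mul, Category.id_comp]
        exact (mul_congr G (by simp only [← Category.assoc, hf1]) hf2 _ ((inv_s G _).trans (mul_t G _ _ hP).symm)).trans (cancel_left G _ _ hP)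
    · apply pullback.hom_ext
      · rw [Category.assoc, hf1, hf'1, Category.id_comp]
      · rw [Category.assoc, hf2, comp_mul, Category.id_comp]
        exact (mul_congr G (by simp only [← Category.assoc, hf'1]) hf'2 _ (((mul_t G _ _ _).trans (inv_t G _)).symm)).trans (cancel_left' G _ _ hQ)
  let j : pullback (a ≫ G.s) (W.ι ≫ G.t) ⟶ P := pullback.map _ _ _ _ (𝟙 _) W.ι (𝟙 _) (by simp) (by simp)
  haveI : IsOpenImmersion j := inferInstance
  have hj1 : j ≫ pullback.fst (a ≫ G.s) G.t = pullback.fst _ _ := (pullback.lift_fst _ _ _).trans (Category.comp_id _)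
  have hj2 : j ≫ pullback.snd (a ≫ G.s) G.t = pullback.snd _ _ ≫ W.ι := pullback.lift_snd _ _ _
  have key : m ≫ G.c = j ≫ f ≫ pullback.snd (a ≫ G.t) G.t := by
    rw [hf2, comp_mul]
    conv_lhs => rw [← c_eq G, comp_mul]
    exact mul_congr G (by rw [hm₁, ← Category.assoc, hj1]) (by rw [hm₂, hj2]) _ _
  haveI : UniversallyOpen (pullback.snd (a ≫ G.t) G.t) :=
    MorphismProperty.pullback_snd _ _ (inferInstance : UniversallyOpen (a ≫ G.t))
  rw [key]
  exact (j ≫ f ≫ pullback.snd (a ≫ G.t) G.t).isOpenMap.isOpen_range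

end L02.Grpd
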